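import Mathlib

/-!
# Fixed spaces of operators acting on a Heisenberg-type matrix algebra
-/

set_option autoImplicit false

namespace Cfsg.Agent.LAE65.FixedHalf

open Module

variable {k : Type*} [Field k] {X : Type*} [AddCommGroup X] [Module k X]

/-- Burnside: a subalgebra with no invariant subspace is everything. -/
theorem subalgebra_eq_top [IsAlgClosed k] [FiniteDimensional k X] [Nontrivial X]
    (A : Subalgebra k (End k X))
    (h : ∀ U : Submodule k X, (∀ a ∈ A, ∀ u ∈ U, a u ∈ U) → U = ⊥ ∨ U = ⊤) : A = ⊤ := by
  classical
  letI : Module ↥A X := Module.compHom X (Subalgebra.val A).toRingHom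
  have hsmul : ∀ (a : ↥A) (x : X), a • x = (a : End k X) x := fun a x => rfl
  haveI : IsSimpleModule ↥A X := by
    rw [isSimpleModule_iff_toSpanSingleton_surjective]
    refine ⟨inferInstance, fun m hm => ?_⟩
    set U : Submodule k X :=
      { carrier := Set.range fun a : ↥A => (a : End k X) m
        zero_mem' := ⟨0, by simp⟩
        add_mem' := by
          rintro _ _ ⟨a, rfl⟩ ⟨b, rfl⟩
          exact ⟨a + b, by simp⟩
        smul_mem' := by
          rintro c _ ⟨a, rfl⟩
          exact ⟨c • a, by simp⟩ } with hU
    have h1 := h U (by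
      rintro a ha _ ⟨b, rfl⟩
      exact ⟨⟨a, ha⟩ * b, by simp⟩)
    rcases h1 with h1 | h1
    · exfalso
      have : m ∈ U := ⟨1, by simp⟩
      rw [h1] at this
      exact hm this
    · intro x
      obtain ⟨a, ha⟩ : x ∈ U := by rw [h1]; trivial
      exact ⟨a, ha⟩
  -- every `A`-endomorphism is scalar
  have hscalar : ∀ f : End ↥A X, ∃ c : k, ∀ x, f x = c • x := by
    intro f
    have hlin : ∀ (c : k) (x : X), f (c • x) = c • f x := by
      intro c x
      have h1 := f.map_smul (algebraMap k ↥A c) x
      have h2 : f (((algebraMap k ↥A c : ↥A) : End k X) x) =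
          ((algebraMap k ↥A c : ↥A) : End k X) (f x) := h1
      simpa [Algebra.algebraMap_eq_smul_one] using h2
    let f' : End k X := { toFun := f, map_add' := f.map_add, map_smul' := hlin }
    obtain ⟨c, hc⟩ := Module.End.exists_eigenvalue f'
    obtain ⟨v, hv⟩ := hc.exists_hasEigenvector
    refine ⟨c, ?_⟩
    rcases h (f'.eigenspace c) (by
      intro a ha u hu
      rw [Module.End.mem_eigenspace_iff] at hu ⊢
      have h1 : f (a u) = a (f u) := f.map_smul (⟨a, ha⟩ : ↥A) u
      show f (a u) = c • a u
      rw [h1]
      show a (f' u) = c • a u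
      rw [hu, map_smul]) with h1 | h1
    · exact absurd h1 (fun h2 => hv.2 (by
        have : v ∈ f'.eigenspace c := hv.1
        rwa [h2, Submodule.mem_bot] at this))
    · intro x
      have hx : x ∈ f'.eigenspace c := by rw [h1]; trivial
      exact Module.End.mem_eigenspace_iff.mp hx
  rw [eq_top_iff]
  intro g _
  let g' : End (End ↥A X) X :=
    { toFun := g
      map_add' := g.map_add
      map_smul' := fun f x => by
        obtain ⟨c, hc⟩ := hscalar f
        show g (f x) = f (g x)
        rw [hc, hc, map_smul] }
  let b := Module.finBasis k X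
  obtain ⟨r, hr⟩ := jacobson_density (R := ↥A) g' (Finset.univ.image b)
  have : g = (r : End k X) := b.ext fun i => by
    have := hr (b i) (Finset.mem_image_of_mem _ (Finset.mem_univ i))
    exact this
  rw [this]
  exact r.2

/-- An operator fixing half of the space has a large centralizer; so if the conjugation action of
`T` has few orbits on a basis of operators, `T` fixes less than half. -/
theorem two_mul_finrank_ker_lt_of_orbits [FiniteDimensional k X] {ι : Type*} [Fintype ι]
    (e : ι → End k X) (hspan : Submodule.span k (Set.range e) = ⊤)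
    (T : End k X) (hT : T ≠ 1)
    (R : Finset ι) (hR : ∀ d, finrank k X ≤ 2 * d → R.card ≤ d * d)
    (horb : ∀ i, e i ∈ Submodule.span k (e '' (R : Set ι)) ⊔
      LinearMap.range (LinearMap.mulLeft k T - LinearMap.mulRight k T)) :
    2 * finrank k (LinearMap.ker (T - 1)) < finrank k X := by
  classical
  set L := LinearMap.mulLeft k T - LinearMap.mulRight k T with hL
  set N := T - 1 with hN
  set d := finrank k (LinearMap.ker N)
  have hLapp : ∀ f, L f = T * f - f * T := fun f => rfl
  let Φ : ((X ⧸ LinearMap.range N) →ₗ[k] LinearMap.ker N) →ₗ[k] End k X :=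
    { toFun := fun g => ((LinearMap.ker N).subtype.comp g).comp (LinearMap.range N).mkQ
      map_add' := fun g g' => by ext; simp
      map_smul' := fun c g => by ext; simp }
  have hΦinj : Function.Injective Φ := by
    intro g g' h
    apply LinearMap.ext
    intro q
    obtain ⟨x, rfl⟩ := Submodule.mkQ_surjective _ q
    exact Subtype.ext (DFunLike.congr_fun h x)
  have hΦker : LinearMap.range Φ ≤ LinearMap.ker L := by
    rintro _ ⟨g, rfl⟩
    rw [LinearMap.mem_ker, hLapp, sub_eq_zero]
    ext x
    have h1 : N ((g ((LinearMap.range N).mkQ x) : LinearMap.ker N) : X) = 0 := (g _).2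
    have h2 : (LinearMap.range N).mkQ (T x) = (LinearMap.range N).mkQ x :=
      (Submodule.Quotient.eq _).mpr ⟨x, rfl⟩
    show T (Φ g x) = Φ g (T x)
    show T ((g ((LinearMap.range N).mkQ x) : LinearMap.ker N) : X)
      = ((g ((LinearMap.range N).mkQ (T x)) : LinearMap.ker N) : X)
    rw [h2]
    exact sub_eq_zero.mp h1
  have h1mem : (1 : End k X) ∈ LinearMap.ker L := by simp [LinearMap.mem_ker, hLapp]
  have h1not : (1 : End k X) ∉ LinearMap.range Φ := by
    rintro ⟨g, hg⟩
    refine hT ?_
    ext x
    have hx := DFunLike.congr_fun hg x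
    have h1 : N ((g ((LinearMap.range N).mkQ x) : LinearMap.ker N) : X) = 0 := (g _).2
    have h2 : ((g ((LinearMap.range N).mkQ x) : LinearMap.ker N) : X) = x := hx
    rw [h2] at h1
    exact sub_eq_zero.mp h1
  have hlt : LinearMap.range Φ < LinearMap.ker L :=
    lt_of_le_of_ne hΦker fun he => h1not (he ▸ h1mem)
  have hdim : d * d < finrank k (LinearMap.ker L) := by
    refine lt_of_eq_of_lt ?_ (Submodule.finrank_lt_finrank_of_lt hlt)
    rw [LinearMap.finrank_range_of_inj hΦinj, Module.finrank_linearMap]
    have h1 := N.finrank_range_add_finrank_ker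
    have h2 := (LinearMap.range N).finrank_quotient_add_finrank
    have h3 : finrank k (X ⧸ LinearMap.range N) = d := by omega
    rw [h3]
  have hle : finrank k (LinearMap.ker L) ≤ R.card := by
    have h1 : Submodule.span k (e '' (R : Set ι)) ⊔ LinearMap.range L = ⊤ := by
      rw [eq_top_iff, ← hspan, Submodule.span_le]
      rintro _ ⟨i, rfl⟩
      exact horb i
    have h2 := Submodule.finrank_add_le_finrank_add_finrank
      (Submodule.span k (e '' (R : Set ι))) (LinearMap.range L)
    rw [h1, finrank_top] at h2
    have h3 := L.finrank_range_add_finrank_ker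
    have h4 : finrank k (Submodule.span k (e '' (R : Set ι))) ≤ R.card := by
      rw [← Finset.coe_image]
      exact (finrank_span_finset_le_card _).trans Finset.card_image_le
    omega
  by_contra hcon
  push Not at hcon
  have h5 := hR d hcon
  omega

end Cfsg.Agent.LAE65.FixedHalf
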