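import Cfsg.Agent.LAE65.FixedHalf.Section

set_option autoImplicit false

namespace Cfsg.Agent.LAE65.FixedHalf

open Module Subgroup
open scoped commutatorElement

variable {G : Type*} [Group G] [Finite G] {k : Type*} [Field k] [IsAlgClosed k] {V : Type*}
  [AddCommGroup V] [Module k V] [FiniteDimensional k V]

theorem two_mul_fixed_lt_coprime [Nontrivial V] {p : ℕ} [hp : Fact p.Prime] (hp5 : 5 ≤ p)
    (ρ : G →* End k V) (hinj : Function.Injective ρ) (x : G) (hx : x ^ p = 1)
    (E : Subgroup G) [hEn : E.Normal] (hES : ¬ E ≤ scalars ρ)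
    (hmin : ∀ Q : Subgroup G, Q.Normal → Q ≤ E → Q ≤ scalars ρ ∨ Q = E)
    (hcomm : ∀ a ∈ E, ∀ b ∈ E, ⁅a, b⁆ ∈ scalars ρ)
    (hrad : ∀ a ∈ E, (∀ b ∈ E, a * b = b * a) → a ∈ scalars ρ)
    (hmove : ∃ a ∈ E, a ∉ fixMod ρ x) [hEnil : Group.IsNilpotent ↥E]
    {r : ℕ} (hr : r.Prime) (hEr : IsPGroup r ↥E) (hrp : r ≠ p) :
    2 * finrank k (LinearMap.ker (ρ x - 1)) < finrank k V := by
  classical
  haveI : Fact r.Prime := ⟨hr⟩
  have hCS : ∀ a ∈ scalars ρ, ∀ g, a * g = g * a := fun a ha g => scalars_comm ρ hinj ha g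
  have hxN : x ∈ Subgroup.normalizer (E : Set G) := by
    rw [normalizer_eq_top_iff.mpr hEn]; exact mem_top x
  -- the commutator part has no fixed cosets
  set X := zpowers x with hX
  set E1 := ⁅E, X⁆ ⊔ ((scalars ρ) ⊓ E) with hE1
  have hXE : X ≤ Subgroup.normalizer (E : Set G) := zpowers_le.mpr hxN
  have hE1E : E1 ≤ E := sup_le (Coprime.commutator_le_of_le_normalizer hXE) inf_le_right
  have hcop : (Nat.card X).Coprime (Nat.card E) := by
    obtain ⟨n, hn⟩ := IsPGroup.iff_card.mp hEr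
    rw [hn, Nat.card_zpowers]
    exact Nat.Coprime.coprime_dvd_left (orderOf_dvd_of_pow_eq_one hx)
      (((Nat.coprime_primes hp.out hr).mpr hrp.symm).pow_right n)
  have hfixX : ∀ e, e ∈ fixMod ρ x → ∀ y ∈ X, y * e * y⁻¹ * e⁻¹ ∈ (scalars ρ) := by
    intro e he y hy
    let π := QuotientGroup.mk' (scalars ρ)
    have h1 : X ≤ (Subgroup.centralizer ({π e} : Set (G ⧸ (scalars ρ)))).comap π := by
      rw [hX, zpowers_le]
      show π x ∈ Subgroup.centralizer ({π e} : Set (G ⧸ (scalars ρ)))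
      rw [mem_centralizer_singleton_iff]
      have h2 : π (x * e * x⁻¹) = π e := he
      rw [map_mul, map_mul, map_inv, mul_inv_eq_iff_eq_mul] at h2
      exact h2
    rw [← QuotientGroup.eq_one_iff (N := (scalars ρ))]
    show π (y * e * y⁻¹ * e⁻¹) = 1
    have h3 : π y ∈ Subgroup.centralizer ({π e} : Set (G ⧸ (scalars ρ))) := h1 hy
    rw [map_mul, map_mul, map_mul, map_inv, map_inv, mem_centralizer_singleton_iff.mp h3]
    simp
  have hE1comm : ∀ c ∈ E, c ∈ fixMod ρ x → ∀ a ∈ E1, c * a = a * c := by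
    intro c hcE hc
    have h1 : E1 ≤ Subgroup.centralizer ({c} : Set G) := by
      refine sup_le (commutator_le.mpr fun e he y hy => ?_) fun a ha => ?_
      · have h2 := commute_commutator_of_fixed hinj (y := y) (hcomm c hcE e he) (hfixX c hc y hy)
        rw [mem_centralizer_singleton_iff]
        have h3 : ⁅e, y⁆ = (y * e * y⁻¹ * e⁻¹)⁻¹ := by simp [commutatorElement_def, mul_assoc]
        rw [h3]
        exact h2.inv_right.symm.eq
      · exact mem_centralizer_singleton_iff.mpr (hCS a ha.1 c)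
    exact fun a ha => (mem_centralizer_singleton_iff.mp (h1 ha)).symm
  have hgenE : ∀ e ∈ E, ∃ a ∈ E1, ∃ c ∈ E ⊓ Subgroup.centralizer (X : Set G), e = a * c := by
    intro e he
    obtain ⟨a, ha, c, hc, rfl⟩ := Coprime.exists_commutator_mul_centralizer X E hXE hcop
      (Or.inr (Coprime.isSolvable_of_isNilpotent' hEnil)) e he
    exact ⟨a, le_sup_left (b := (scalars ρ) ⊓ E) ha, c, hc, rfl⟩
  have hCfix : ∀ c ∈ Subgroup.centralizer (X : Set G), c ∈ fixMod ρ x := fun c hc => by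
    rw [mem_fixMod, (mem_centralizer_iff.mp hc x (mem_zpowers x)), mul_inv_cancel_right]
  have hfixE1 : ∀ a ∈ E1, a ∈ fixMod ρ x → a ∈ (scalars ρ) := by
    intro a ha hafix
    refine hrad a (hE1E ha) fun b hb => ?_
    obtain ⟨b1, hb1, c, hc, rfl⟩ := hgenE b hb
    have h1 : Commute a b1 := hE1comm a (hE1E ha) hafix b1 hb1
    have h2 : Commute a c := (hE1comm c hc.1 (hCfix c hc.2) a ha).symm
    exact (h1.mul_right h2).eq
  refine two_mul_fixed_lt_of_section ρ hinj x hx E1 ?_ (fun a ha b hb => hcomm a (hE1E ha) b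
    (hE1E hb)) (fun a ha h => hrad a (hE1E ha) fun b hb => ?_) ?_ ?_
  · exact Coprime.le_normalizer_sup (Coprime.le_normalizer_commutator_right X E)
      (Coprime.le_normalizer_inf (fun y _ => by
        rw [normalizer_eq_top_iff.mpr (scalars_normal ρ)]; exact mem_top y) hXE) (mem_zpowers x)
  · obtain ⟨b1, hb1, c, hc, rfl⟩ := hgenE b hb
    exact ((show Commute a b1 from h b1 hb1).mul_right
      (show Commute a c from (hE1comm c hc.1 (hCfix c hc.2) a ha).symm)).eq
  · obtain ⟨e, he, hefix⟩ := hmove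
    obtain ⟨a, ha, c, hc, rfl⟩ := hgenE e he
    exact ⟨a, ha, fun h => hefix (mul_mem h (hCfix c hc.2))⟩
  · intro R u d hR hu hd
    have hf1 : (scalars ρ).relIndex (E1 ⊓ fixMod ρ x) = 1 :=
      relIndex_eq_one.mpr fun a ha => hfixE1 a ha.1 ha.2
    rw [hf1, mul_one] at hR
    by_contra hcon
    push Not at hcon
    have h4 : u * u ≤ (2 * d) * (2 * d) := Nat.mul_le_mul hd hd
    have h5 := Nat.mul_le_mul_left p (show d * d + 1 ≤ R by omega)
    have h6 : p - 1 + 1 = p := by omega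
    nlinarith

end Cfsg.Agent.LAE65.FixedHalf
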