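import Cfsg.Agent.LAE65.FixedHalf.Section

set_option autoImplicit false

namespace Cfsg.Agent.LAE65.FixedHalf

open Module Subgroup
open scoped commutatorElement

variable {G : Type*} [Group G] [Finite G] {k : Type*} [Field k] [IsAlgClosed k] {V : Type*}
  [AddCommGroup V] [Module k V] [FiniteDimensional k V]

theorem two_mul_fixed_lt_equal [Nontrivial V] {p : ℕ} [hp : Fact p.Prime] (hp5 : 5 ≤ p)
    (ρ : G →* End k V) (hinj : Function.Injective ρ) (x : G) (hx : x ^ p = 1)
    (E : Subgroup G) [hEn : E.Normal] (hES : ¬ E ≤ scalars ρ)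
    (hmin : ∀ Q : Subgroup G, Q.Normal → Q ≤ E → Q ≤ scalars ρ ∨ Q = E)
    (hcomm : ∀ a ∈ E, ∀ b ∈ E, ⁅a, b⁆ ∈ scalars ρ)
    (hrad : ∀ a ∈ E, (∀ b ∈ E, a * b = b * a) → a ∈ scalars ρ)
    (hmove : ∃ a ∈ E, a ∉ fixMod ρ x) [hEnil : Group.IsNilpotent ↥E]
    {r : ℕ} (hr : r.Prime) (hEr : IsPGroup r ↥E) (hrp : r = p) :
    2 * finrank k (LinearMap.ker (ρ x - 1)) < finrank k V := by
  classical
  haveI : Fact r.Prime := ⟨hr⟩
  have hCS : ∀ a ∈ scalars ρ, ∀ g, a * g = g * a := fun a ha g => scalars_comm ρ hinj ha g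
  have hxN : x ∈ Subgroup.normalizer (E : Set G) := by
    rw [normalizer_eq_top_iff.mpr hEn]; exact mem_top x
  subst hrp
  -- exponent `p` modulo the scalars
  have hexp : ∀ e ∈ E, e ^ r ∈ (scalars ρ) := by
    let π := QuotientGroup.mk' (scalars ρ)
    have hπc : ∀ a ∈ E, ∀ b ∈ E, Commute (π a) (π b) := by
      intro a ha b hb
      rw [commute_iff_eq, ← commutatorElement_eq_one_iff_mul_comm, ← map_commutatorElement]
      exact (QuotientGroup.eq_one_iff _).mpr (hcomm a ha b hb)
    let Q : Subgroup G :=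
      { carrier := {e | e ∈ E ∧ π e ^ r = 1}
        one_mem' := ⟨one_mem _, by simp⟩
        mul_mem' := fun {a b} ha hb => ⟨mul_mem ha.1 hb.1, by
          rw [map_mul, (hπc a ha.1 b hb.1).mul_pow, ha.2, hb.2, one_mul]⟩
        inv_mem' := fun {a} ha => ⟨inv_mem ha.1, by rw [map_inv, inv_pow, ha.2, inv_one]⟩ }
    have hQn : Q.Normal := ⟨fun a ha g => ⟨hEn.conj_mem a ha.1 g, by
      rw [map_mul, map_mul, map_inv, conj_pow, ha.2, mul_one, mul_inv_cancel]⟩⟩
    have hQE : Q ≤ E := fun a ha => ha.1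
    have hQS : ¬ Q ≤ (scalars ρ) := by
      intro hle
      obtain ⟨a, ha, haS⟩ := SetLike.not_le_iff_exists.mp hES
      obtain ⟨n, hn⟩ := hEr ⟨a, ha⟩
      have hn' : a ^ r ^ n = 1 := congrArg Subtype.val hn
      have key : ∀ n, ∀ b ∈ E, b ^ r ^ n ∈ (scalars ρ) → b ∈ (scalars ρ) := by
        intro n
        induction n with
        | zero => intro b _ hb; simpa using hb
        | succ n ih =>
          intro b hb hbn
          refine hle ⟨hb, ?_⟩
          have h1 : b ^ r ∈ (scalars ρ) := ih _ (pow_mem hb r) (by rwa [← pow_mul, ← pow_succ'])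
          rw [← map_pow]
          exact (QuotientGroup.eq_one_iff _).mpr h1
      exact haS (key n a ha (hn' ▸ one_mem (scalars ρ)))
    have hQeq := (hmin Q hQn hQE).resolve_left hQS
    intro e he
    have h1 : π e ^ r = 1 := (hQeq ▸ he : e ∈ Q).2
    rw [← map_pow] at h1
    exact (QuotientGroup.eq_one_iff _).mp h1
  set F := E ⊓ fixMod ρ x with hF
  have hSEF : (scalars ρ) ⊓ E ≤ F := fun a ha => ⟨ha.2, by
    show _ = _
    simp only [MonoidHom.coe_comp, Function.comp_apply]
    rw [show (MulAut.conj x).toMonoidHom a = x * a * x⁻¹ from rfl, ← hCS a ha.1 x,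
      mul_inv_cancel_right]⟩
  have hpow : ∀ H : Subgroup G, H ≤ E → ∀ K : Subgroup G, ∃ n, K.relIndex H = r ^ n := by
    intro H hH K
    obtain ⟨n, hn⟩ := IsPGroup.iff_card.mp (hEr.to_le hH)
    obtain ⟨i, -, hi⟩ := (Nat.dvd_prime_pow hr).mp (hn ▸ K.relIndex_dvd_card H)
    exact ⟨i, hi⟩
  have hmulF : (scalars ρ).relIndex F * F.relIndex E = (scalars ρ).relIndex E := by
    rw [← inf_relIndex_right (scalars ρ) E, ← inf_relIndex_right (scalars ρ) F,
      show (scalars ρ) ⊓ F = (scalars ρ) ⊓ E from le_antisymm (inf_le_inf_left _ inf_le_left)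
        (le_inf inf_le_left hSEF)]
    exact relIndex_mul_relIndex _ _ _ hSEF inf_le_left
  obtain ⟨j, hj⟩ := hpow E le_rfl F
  have hj0 : j ≠ 0 := by
    intro h0
    rw [h0, pow_zero, relIndex_eq_one] at hj
    obtain ⟨a, ha, hna⟩ := hmove
    exact hna (hj ha).2
  rcases (Nat.lt_or_ge 1 j) with hj2 | hj2
  · refine two_mul_fixed_lt_of_section ρ hinj x hx E hxN hcomm hrad hmove ?_
    intro R u d hR hu hd
    by_contra hcon
    push Not at hcon
    rw [← hu] at hR hmulF
    rw [hj] at hmulF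
    have h3 : r * r ≤ r ^ j := by
      calc r * r = r ^ 2 := by ring
        _ ≤ r ^ j := Nat.pow_le_pow_right hr.pos hj2
    have h4 : u * u ≤ (2 * d) * (2 * d) := Nat.mul_le_mul hd hd
    have hf2 : (scalars ρ).relIndex (E ⊓ fixMod ρ x) * (r * r) ≤ u * u :=
      hmulF ▸ Nat.mul_le_mul_left _ h3
    generalize (scalars ρ).relIndex (E ⊓ fixMod ρ x) = f at hR hf2
    have h6 : (r - 1) * f ≤ r * f := Nat.mul_le_mul_right f (by omega)
    have h7 := Nat.mul_le_mul_left r (show d * d + 1 ≤ R by omega)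
    have h8 : r * (r * f) ≤ u * u := by
      calc r * (r * f) = f * (r * r) := by ring
        _ ≤ u * u := hf2
    have h9 : 5 * (r * f) ≤ u * u := le_trans (Nat.mul_le_mul_right _ hp5) h8
    have h10 : 5 * (d * d + 1) ≤ r * (d * d + 1) := Nat.mul_le_mul_right _ hp5
    nlinarith
  · have hj1 : j = 1 := by omega
    rw [hj1, pow_one] at hj
    obtain ⟨e0, he0, he0F⟩ : ∃ a ∈ E, a ∉ F := by
      obtain ⟨a, ha, hna⟩ := hmove
      exact ⟨a, ha, fun h => hna h.2⟩
    set i := x * e0 * x⁻¹ * e0⁻¹ with hi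
    have hiE : i ∈ E := mul_mem (hEn.conj_mem e0 he0 x) (inv_mem he0)
    have hiS : i ∉ (scalars ρ) := fun h => he0F ⟨he0, mem_fixMod'.mpr h⟩
    have hiFc : ∀ c ∈ F, Commute c i := fun c hc =>
      commute_commutator_of_fixed hinj (hcomm c hc.1 e0 he0) (mem_fixMod'.mp hc.2)
    -- `F` is maximal in `E`
    have hmax : ∀ H : Subgroup G, F ≤ H → H ≤ E → H = F ∨ H = E := by
      intro H h1 h2
      have h3 := relIndex_mul_relIndex F H E h1 h2
      rw [hj] at h3
      rcases (Nat.dvd_prime hr).mp (Dvd.intro _ h3) with h4 | h4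
      · exact Or.inl (le_antisymm (relIndex_eq_one.mp h4) h1)
      · rw [h4, mul_eq_left₀ hr.ne_zero] at h3
        exact Or.inr (le_antisymm h2 (relIndex_eq_one.mp h3))
    have hcent : ∀ a ∈ E, (∀ c ∈ F, Commute c a) → ∀ b ∈ E, b ∉ F → Commute b a → a ∈ (scalars ρ) := by
      intro a ha hc b hb hbF hba
      refine hrad a ha fun u hu => ?_
      have h1 : E ⊓ Subgroup.centralizer ({a} : Set G) = E := by
        refine (hmax (E ⊓ Subgroup.centralizer ({a} : Set G)) (fun c hcF => ⟨hcF.1, mem_centralizer_singleton_iff.mpr (hc c hcF)⟩)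
          inf_le_left).resolve_left fun h => hbF ?_
        exact h ▸ ⟨hb, mem_centralizer_singleton_iff.mpr hba⟩
      have h2 : u ∈ E ⊓ Subgroup.centralizer ({a} : Set G) := h1.symm ▸ hu
      exact (mem_centralizer_singleton_iff.mp h2.2).symm
    have hiF : i ∈ F := by
      by_contra h
      exact hiS (hcent i hiE hiFc i hiE h (Commute.refl i))
    have he0i : ¬ Commute e0 i := fun h => hiS (hcent i hiE hiFc e0 he0 he0F h)
    set E1 := ((scalars ρ) ⊓ E) ⊔ Subgroup.closure {e0, i} with hE1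
    have hE1E : E1 ≤ E := sup_le inf_le_right ((closure_le E).mpr (by
      rintro a (rfl | rfl) <;> assumption))
    have he0E1 : e0 ∈ E1 := le_sup_right (a := (scalars ρ) ⊓ E) (subset_closure (Or.inl rfl))
    have hiE1 : i ∈ E1 := le_sup_right (a := (scalars ρ) ⊓ E) (subset_closure (Or.inr rfl))
    -- every element is `e0 ^ s * i ^ t` modulo the scalars
    let π := QuotientGroup.mk' (scalars ρ)
    have hπc : Commute (π e0) (π i) := by
      rw [commute_iff_eq, ← commutatorElement_eq_one_iff_mul_comm, ← map_commutatorElement]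
      exact (QuotientGroup.eq_one_iff _).mpr (hcomm e0 he0 i hiE)
    have hform : ∀ a ∈ E1, ∃ s < r, ∃ t < r, π a = π e0 ^ s * π i ^ t := by
      intro a ha
      have h1 : π a ∈ (zpowers (π e0)) ⊔ (zpowers (π i)) := by
        have h2 : E1.map π ≤ zpowers (π e0) ⊔ zpowers (π i) := by
          rw [hE1, Subgroup.map_sup, MonoidHom.map_closure]
          refine sup_le ?_ ((closure_le _).mpr ?_)
          · rintro _ ⟨z, hz, rfl⟩
            rw [show π z = 1 from (QuotientGroup.eq_one_iff _).mpr hz.1]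
            exact one_mem _
          · rintro _ ⟨z, hz, rfl⟩
            rcases hz with rfl | rfl
            · exact le_sup_left (b := zpowers (π i)) (mem_zpowers _)
            · exact le_sup_right (a := zpowers (π e0)) (mem_zpowers _)
        exact h2 (mem_map_of_mem π ha)
      have hnorm : zpowers (π e0) ≤ Subgroup.normalizer ((zpowers (π i) : Subgroup _) : Set _) :=
        le_trans (zpowers_le.mpr (mem_centralizer_iff.mpr fun y hy => by
          obtain ⟨m, rfl⟩ := mem_zpowers_iff.mp hy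
          exact (hπc.zpow_right m).symm.eq)) (centralizer_le_normalizer _)
      have h3 : π a ∈ ((zpowers (π e0) ⊔ zpowers (π i) : Subgroup _) : Set (G ⧸ (scalars ρ))) := h1
      rw [coe_mul_of_left_le_normalizer_right _ _ hnorm] at h3
      obtain ⟨u, hu, v, hv, huv⟩ := h3
      obtain ⟨s, rfl⟩ := mem_powers_iff_mem_zpowers.mpr hu
      obtain ⟨t, rfl⟩ := mem_powers_iff_mem_zpowers.mpr hv
      have hp0 : π e0 ^ r = 1 := by
        rw [← map_pow]; exact (QuotientGroup.eq_one_iff _).mpr (hexp e0 he0)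
      have hpi : π i ^ r = 1 := by
        rw [← map_pow]; exact (QuotientGroup.eq_one_iff _).mpr (hexp i hiE)
      refine ⟨s % r, Nat.mod_lt _ hr.pos, t % r, Nat.mod_lt _ hr.pos, ?_⟩
      rw [← huv]
      show π e0 ^ s * π i ^ t = _
      rw [pow_eq_pow_mod (M := G ⧸ (scalars ρ)) s hp0, pow_eq_pow_mod (M := G ⧸ (scalars ρ)) t hpi]
    refine two_mul_fixed_lt_of_section ρ hinj x hx E1 ?_
      (fun a ha b hb => hcomm a (hE1E ha) b (hE1E hb)) ?_ ⟨e0, he0E1, fun h => he0F ⟨he0, h⟩⟩ ?_
    · refine mem_normalizer_fintype ?_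
      intro a ha
      have h1 : E1 ≤ E1.comap (MulAut.conj x).toMonoidHom := by
        rw [hE1]
        refine sup_le (fun z hz => ?_) ((closure_le _).mpr ?_)
        · rw [mem_comap]
          show (MulAut.conj x) z ∈ _
          rw [MulAut.conj_apply]
          exact le_sup_left (b := Subgroup.closure {e0, i})
            ⟨(scalars_normal ρ).conj_mem z hz.1 x, hEn.conj_mem z hz.2 x⟩
        · rintro b (hb | hb) <;> rw [hb]
          · show x * e0 * x⁻¹ ∈ E1
            have h2 := mul_mem hiE1 he0E1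
            simpa [hi] using h2
          · show x * i * x⁻¹ ∈ E1
            have h4 : x * i * x⁻¹ ∈ E := hEn.conj_mem i hiE x
            have h5 : x * i * x⁻¹ * i⁻¹ ∈ E := mul_mem h4 (inv_mem hiE)
            have h2 : x * i * x⁻¹ * i⁻¹ ∈ (scalars ρ) ⊓ E :=
              ⟨mem_fixMod'.mp hiF.2, h5⟩
            have h3 := mul_mem (le_sup_left (b := Subgroup.closure {e0, i}) h2) hiE1
            simpa using h3
      exact h1 ha
    · intro a ha h
      obtain ⟨s, hs, t, ht, hst⟩ := hform a ha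
      obtain ⟨w, hw, haw⟩ : ∃ w ∈ (scalars ρ), a = w * (e0 ^ s * i ^ t) := by
        refine ⟨a * (e0 ^ s * i ^ t)⁻¹, (QuotientGroup.eq_one_iff _).mp ?_, by group⟩
        show π (a * (e0 ^ s * i ^ t)⁻¹) = 1
        rw [map_mul, map_inv, map_mul, map_pow, map_pow, hst, mul_inv_cancel]
      have hai : Commute a i := h i hiE1
      have hae : Commute a e0 := h e0 he0E1
      have hei : Commute (e0 ^ s) i := by
        have h5 : e0 ^ s = w⁻¹ * a * (i ^ t)⁻¹ := by rw [haw]; simp [mul_assoc]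
        rw [h5]
        exact ((show Commute w i from hCS w hw i).inv_left.mul_left hai).mul_left
          ((Commute.refl i).pow_left t).inv_left
      have hs0 : s = 0 := by
        by_contra hs0
        refine hiS (hcent i hiE hiFc (e0 ^ s) (pow_mem he0 s) (fun hsF => he0F ?_) hei)
        have hcop : Nat.Coprime r s :=
          hr.coprime_iff_not_dvd.mpr (Nat.not_dvd_of_pos_of_lt (Nat.pos_of_ne_zero hs0) hs)
        obtain ⟨m, -, hm⟩ := Nat.exists_mul_mod_eq_one_of_coprime hcop.symm hr.one_lt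
        have h6 : e0 ^ (s * m) ∈ F := by rw [pow_mul]; exact pow_mem hsF m
        rw [← Nat.mod_add_div (s * m) r, hm, pow_add, pow_one, pow_mul] at h6
        have h7 : e0 ^ r ∈ F := hSEF ⟨hexp e0 he0, pow_mem he0 r⟩
        exact (mul_mem_cancel_right (pow_mem h7 _)).mp h6
      subst hs0
      rw [pow_zero, one_mul] at haw
      refine hcent a (hE1E ha) (fun c hc => ?_) e0 he0 he0F hae.symm
      rw [haw]
      exact ((show Commute w c from hCS w hw c).symm).mul_right ((hiFc c hc).pow_right t)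
    · intro R u d hR hu hd
      obtain ⟨m, hm⟩ := hpow E1 hE1E (scalars ρ)
      obtain ⟨l, hl⟩ := hpow (E1 ⊓ fixMod ρ x) (inf_le_left.trans hE1E) (scalars ρ)
      have hn : (scalars ρ).relIndex E1 ≤ r * r := by
        have h1 : (QuotientGroup.mk' (scalars ρ)).ker = (scalars ρ) := QuotientGroup.ker_mk' (scalars ρ)
        conv_lhs => rw [← h1, relIndex_ker]
        let φ : Fin r × Fin r → G ⧸ (scalars ρ) := fun st => π e0 ^ (st.1 : ℕ) * π i ^ (st.2 : ℕ)
        calc Nat.card (E1.map π) ≤ Nat.card (Set.range φ) :=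
              Nat.card_mono (Set.toFinite _) (by
                rintro _ ⟨a, ha, rfl⟩
                obtain ⟨s, hs, t, ht, hst⟩ := hform a ha
                exact ⟨(⟨s, hs⟩, ⟨t, ht⟩), hst.symm⟩)
          _ ≤ Nat.card (Fin r × Fin r) := Finite.card_range_le φ
          _ = r * r := by simp
      have hmul1 : (scalars ρ).relIndex (E1 ⊓ fixMod ρ x) * (E1 ⊓ fixMod ρ x).relIndex E1
          = (scalars ρ).relIndex E1 := by
        have hle : (scalars ρ) ⊓ E1 ≤ E1 ⊓ fixMod ρ x := fun a ha =>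
          ⟨ha.2, (hSEF ⟨ha.1, hE1E ha.2⟩).2⟩
        rw [← inf_relIndex_right (scalars ρ) E1, ← inf_relIndex_right (scalars ρ) (E1 ⊓ fixMod ρ x),
          show (scalars ρ) ⊓ (E1 ⊓ fixMod ρ x) = (scalars ρ) ⊓ E1 from le_antisymm (inf_le_inf_left _ inf_le_left)
            (le_inf inf_le_left hle)]
        exact relIndex_mul_relIndex _ _ _ hle inf_le_left
      have hl0 : l ≠ 0 := fun h0 => by
        have h1 : (scalars ρ).relIndex (E1 ⊓ fixMod ρ x) = 1 := by rw [hl, h0, pow_zero]
        have h2 : i ∈ E1 ⊓ fixMod ρ x := ⟨hiE1, hiF.2⟩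
        exact hiS (relIndex_eq_one.mp h1 h2)
      have hlm : l < m := by
        by_contra hle
        push Not at hle
        have h2 : (scalars ρ).relIndex E1 ≤ (scalars ρ).relIndex (E1 ⊓ fixMod ρ x) := by
          rw [hm, hl]; exact Nat.pow_le_pow_right hr.pos hle
        have h3 : (E1 ⊓ fixMod ρ x).relIndex E1 ≠ 1 := fun h =>
          he0F ⟨he0, ((relIndex_eq_one.mp h) he0E1).2⟩
        have h4 : (E1 ⊓ fixMod ρ x).relIndex E1 ≠ 0 := index_ne_zero_of_finite
        have h5 : 0 < (scalars ρ).relIndex (E1 ⊓ fixMod ρ x) := by rw [hl]; exact pow_pos hr.pos l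
        have h6 := Nat.mul_le_mul_left ((scalars ρ).relIndex (E1 ⊓ fixMod ρ x))
          (show 2 ≤ (E1 ⊓ fixMod ρ x).relIndex E1 by omega)
        omega
      have hm2 : m = 2 := by
        have h2 : r ^ m ≤ r ^ 2 := by rw [← hm, pow_two]; exact hn
        have := (Nat.pow_le_pow_iff_right hr.one_lt).mp h2
        omega
      have hl1 : l = 1 := by omega
      rw [hm, hl, hm2, hl1, pow_one] at hR
      rw [hm, hm2, pow_two] at hu
      have hur : u = r := Nat.mul_self_inj.mp hu
      subst hur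
      have hodd : u % 2 = 1 := Nat.odd_iff.mp (hr.odd_of_ne_two (by omega))
      have hd1 : u + 1 ≤ 2 * d := by omega
      by_contra hcon
      push Not at hcon
      have h7 := Nat.mul_le_mul_left u (show d * d + 1 ≤ R by omega)
      obtain ⟨v, rfl⟩ : ∃ v, u = v + 5 := ⟨u - 5, by omega⟩
      rw [show v + 5 - 1 = v + 4 by omega] at hR
      have h8 : (v + 5 + 1) * (v + 5 + 1) ≤ (2 * d) * (2 * d) := Nat.mul_le_mul hd1 hd1
      have h9 : R ≤ 2 * v + 9 := Nat.le_of_mul_le_mul_left
        (show (v + 5) * R ≤ (v + 5) * (2 * v + 9) by nlinarith) (by omega)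
      nlinarith

end Cfsg.Agent.LAE65.FixedHalf
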