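import Cfsg.Agent.LAE65.FixedHalf.Main

/-!
# Descent to irreducible constituents over an algebraic closure
-/

set_option autoImplicit false

namespace Cfsg.Agent.LAE65.FixedHalf

open Module Subgroup
open scoped TensorProduct

universe uk uv

variable {G : Type*} [Group G] [Finite G]

theorem finrank_fixed_le_add {k : Type*} [Field k] {V : Type*} [AddCommGroup V] [Module k V]
    [FiniteDimensional k V] (ρ : G →* End k V) (U : Submodule k V)
    (hU : ∀ g, ∀ u ∈ U, ρ g u ∈ U) (x : G) :
    finrank k (LinearMap.ker (ρ x - 1)) ≤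
      finrank k (LinearMap.ker (resRep ρ U hU x - 1)) +
        finrank k (LinearMap.ker (quoRep ρ U hU x - 1)) := by
  set K := LinearMap.ker (ρ x - 1) with hK
  have hfix : ∀ v : K, ρ x (v : V) = v := fun v => sub_eq_zero.mp v.2
  let π : K →ₗ[k] LinearMap.ker (quoRep ρ U hU x - 1) :=
    (U.mkQ.comp K.subtype).codRestrict _ (fun v => by
      simp [quoRep, hfix v])
  have h3 := π.finrank_range_add_finrank_ker
  have h4 := Submodule.finrank_le (LinearMap.range π)
  let i : LinearMap.ker π →ₗ[k] LinearMap.ker (resRep ρ U hU x - 1) :=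
    { toFun := fun v => ⟨⟨(v : K), (Submodule.Quotient.mk_eq_zero U).mp
        (congrArg Subtype.val v.2)⟩, by
          rw [LinearMap.mem_ker, LinearMap.sub_apply, sub_eq_zero]
          exact Subtype.ext (hfix v)⟩
      map_add' := fun a b => rfl
      map_smul' := fun c a => rfl }
  have h5 : finrank k (LinearMap.ker π) ≤ finrank k (LinearMap.ker (resRep ρ U hU x - 1)) :=
    LinearMap.finrank_le_finrank_of_injective (f := i) fun a b hab => Subtype.ext (Subtype.ext
      (congrArg (fun w : LinearMap.ker (resRep ρ U hU x - 1) => ((w : U) : V)) hab))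
  omega

/-- The bound, for a representation over an algebraically closed field in which some normal
subgroup of order prime to the characteristic has no fixed points. -/
theorem two_mul_fixed_lt_of_sum_zero {k : Type uk} [Field k] [IsAlgClosed k] [Group.IsSolvable G]
    {p : ℕ} [Fact p.Prime] (hp5 : 5 ≤ p) (x : G) (hx : x ^ p = 1)
    (hgen : Subgroup.normalClosure {x} = ⊤) (K0 : Subgroup G) [Fintype K0]
    (hK0 : (Fintype.card K0 : k) ≠ 0) :
    ∀ (n : ℕ) (X : Type uv) [AddCommGroup X] [Module k X] [FiniteDimensional k X] [Nontrivial X]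
      (ρ : G →* End k X), (∑ g : K0, ρ (g : G)) = 0 → finrank k X = n →
      2 * finrank k (LinearMap.ker (ρ x - 1)) < finrank k X := by
  intro n
  induction n using Nat.strong_induction_on with
  | _ n ih =>
  intro X _ _ _ _ ρ hsum hn
  by_cases hirr : ∀ U : Submodule k X, (∀ g, ∀ u ∈ U, ρ g u ∈ U) → U = ⊥ ∨ U = ⊤
  · let ρ' : G ⧸ ρ.ker →* End k X := QuotientGroup.lift ρ.ker ρ le_rfl
    have hmk : ∀ g : G, ρ' (g : G ⧸ ρ.ker) = ρ g := fun g => rfl
    have hinj : Function.Injective ρ' := by
      intro a b hab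
      obtain ⟨a, rfl⟩ := QuotientGroup.mk_surjective a
      obtain ⟨b, rfl⟩ := QuotientGroup.mk_surjective b
      rw [hmk, hmk] at hab
      rw [QuotientGroup.eq]
      show ρ (a⁻¹ * b) = 1
      rw [map_mul, ← hab, rho_inv_mul]
    have hx1 : (x : G ⧸ ρ.ker) ≠ 1 := by
      intro h
      have hN : ρ.ker = ⊤ := top_le_iff.mp (hgen.ge.trans (normalClosure_le_normal
        (Set.singleton_subset_iff.mpr ((QuotientGroup.eq_one_iff x).mp h))))
      have hall : ∀ g : G, ρ g = 1 := fun g => by
        have hg : g ∈ ρ.ker := hN ▸ mem_top g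
        exact hg
      have h1 : ((Fintype.card K0 : k)) • (1 : End k X) = 0 := by
        rw [Nat.cast_smul_eq_nsmul]
        simpa [hall] using hsum
      exact one_ne_zero ((smul_eq_zero.mp h1).resolve_left hK0)
    have hgen' : Subgroup.normalClosure {(x : G ⧸ ρ.ker)} = ⊤ := by
      have h1 := Subgroup.map_normalClosure {x} (QuotientGroup.mk' ρ.ker)
        (QuotientGroup.mk'_surjective _)
      rw [hgen, Subgroup.map_top_of_surjective _ (QuotientGroup.mk'_surjective _),
        Set.image_singleton] at h1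
      exact h1.symm
    haveI : Group.IsSolvable (G ⧸ ρ.ker) :=
      Group.isSolvable_of_surjective (f := QuotientGroup.mk' ρ.ker) (QuotientGroup.mk'_surjective _)
    refine two_mul_fixed_lt_of_faithful hp5 ρ' hinj (fun U hU => hirr U fun g => ?_)
      (x : G ⧸ ρ.ker) ?_ hx1 hgen'
    · exact hU (g : G ⧸ ρ.ker)
    · rw [← QuotientGroup.mk_pow, hx, QuotientGroup.mk_one]
  · push Not at hirr
    obtain ⟨U, hU, hUb, hUt⟩ := hirr
    haveI : Nontrivial U := Submodule.nontrivial_iff_ne_bot.mpr hUb
    haveI : Nontrivial (X ⧸ U) := Submodule.Quotient.nontrivial_iff.mpr hUt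
    have hdim := U.finrank_quotient_add_finrank
    have hposU : 0 < finrank k U := finrank_pos
    have hposQ : 0 < finrank k (X ⧸ U) := finrank_pos
    have h1 := ih (finrank k U) (by omega) U (resRep ρ U hU) (LinearMap.ext fun u => Subtype.ext (by
      have h := LinearMap.congr_fun hsum (u : X)
      rw [LinearMap.sum_apply] at h
      rw [LinearMap.sum_apply, AddSubmonoidClass.coe_finset_sum]
      exact h)) rfl
    have h2 := ih (finrank k (X ⧸ U)) (by omega) (X ⧸ U) (quoRep ρ U hU)
      (Submodule.linearMap_qext _ (LinearMap.ext fun u => by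
        have h := LinearMap.congr_fun hsum u
        rw [LinearMap.sum_apply] at h
        rw [LinearMap.comp_apply, LinearMap.sum_apply]
        show ∑ g : K0, U.mkQ (ρ (g : G) u) = _
        rw [← map_sum, h]
        simp)) rfl
    have h3 := finrank_fixed_le_add ρ U hU x
    omega

theorem finrank_ker_le_baseChange {k : Type*} [Field k] (K : Type*) [Field K] [Algebra k K]
    {V : Type*} [AddCommGroup V] [Module k V] [FiniteDimensional k V] (f : End k V) :
    finrank k (LinearMap.ker f) ≤ finrank K (LinearMap.ker (f.baseChange K)) := by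
  have h1 := f.finrank_range_add_finrank_ker
  have h2 := (f.baseChange K).finrank_range_add_finrank_ker
  rw [Module.finrank_baseChange] at h2
  have h3 : f.baseChange K =
      ((LinearMap.range f).subtype.baseChange K).comp (f.rangeRestrict.baseChange K) := by
    rw [← LinearMap.baseChange_comp]
    rfl
  have h4 : finrank K (LinearMap.range (f.baseChange K)) ≤ finrank k (LinearMap.range f) := by
    rw [h3]
    calc _ ≤ finrank K (LinearMap.range ((LinearMap.range f).subtype.baseChange K)) :=
          Submodule.finrank_mono (LinearMap.range_comp_le_range _ _)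
      _ ≤ finrank K (K ⊗[k] LinearMap.range f) := LinearMap.finrank_range_le _
      _ = _ := Module.finrank_baseChange
  omega

theorem exists_common_fixed {k : Type*} [Field k] {V : Type*} [AddCommGroup V] [Module k V]
    [Nontrivial V] (ρ : G →* End k V) (s : Finset G)
    (hc : ∀ a ∈ s, ∀ b ∈ s, a * b = b * a) (hn : ∀ a ∈ s, IsNilpotent (ρ a - 1)) :
    ∃ v : V, v ≠ 0 ∧ ∀ a ∈ s, ρ a v = v := by
  classical
  induction s using Finset.induction_on with
  | empty =>
    obtain ⟨v, hv⟩ := exists_ne (0 : V)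
    exact ⟨v, hv, by simp⟩
  | @insert a s has ih =>
    obtain ⟨v, hv, hfix⟩ := ih (fun b hb c hc' => hc b (Finset.mem_insert_of_mem hb) c
      (Finset.mem_insert_of_mem hc')) (fun b hb => hn b (Finset.mem_insert_of_mem hb))
    obtain ⟨m, hm⟩ := hn a (Finset.mem_insert_self a s)
    have hex : ∃ i : ℕ, ((ρ a - 1) ^ i : End k V) v = 0 := ⟨m, by rw [hm]; rfl⟩
    have h0 : Nat.find hex ≠ 0 := fun h => hv (by simpa [h] using Nat.find_spec hex)
    obtain ⟨i, hi⟩ := Nat.exists_eq_succ_of_ne_zero h0
    refine ⟨((ρ a - 1) ^ i) v, Nat.find_min hex (by omega), fun b hb => ?_⟩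
    rcases Finset.mem_insert.mp hb with rfl | hbs
    · have h2 := Nat.find_spec hex
      rw [hi, pow_succ', Module.End.mul_apply, LinearMap.sub_apply, sub_eq_zero] at h2
      exact h2
    · have h1 : Commute (ρ b) ((ρ a - 1) ^ i) :=
        (Commute.sub_right (show Commute (ρ b) (ρ a) from by
          rw [commute_iff_eq, ← map_mul, ← map_mul, hc b hb a (Finset.mem_insert_self a s)])
          (Commute.one_right _)).pow_right i
      have h2 := LinearMap.congr_fun h1.eq v
      rw [Module.End.mul_apply, Module.End.mul_apply, hfix b hbs] at h2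
      exact h2

/-- A faithful irreducible module has a normal subgroup of order prime to the characteristic
whose averaging operator vanishes. -/
theorem exists_sum_zero [Group.IsSolvable G] [Nontrivial G] {k : Type*} [Field k] (ℓ : ℕ)
    [Fact ℓ.Prime] [CharP k ℓ] {V : Type*} [AddCommGroup V] [Module k V] [Nontrivial V]
    (ρ : G →* End k V) (hinj : Function.Injective ρ)
    (hirr : ∀ U : Submodule k V, (∀ g, ∀ u ∈ U, ρ g u ∈ U) → U = ⊥ ∨ U = ⊤) :
    ∃ (K0 : Subgroup G) (_ : Fintype K0), (Fintype.card K0 : k) ≠ 0 ∧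
      (∑ g : K0, ρ (g : G)) = 0 := by
  classical
  obtain ⟨A, hAn, hA1, hAc⟩ : ∃ A : Subgroup G, A.Normal ∧ A ≠ ⊥ ∧
      ∀ a ∈ A, ∀ b ∈ A, a * b = b * a := by
    obtain ⟨n, hn⟩ := Group.IsSolvable.solvable (G := G)
    have hex : ∃ n, derivedSeries G n = ⊥ := ⟨n, hn⟩
    have h0 : Nat.find hex ≠ 0 := fun h => by
      have := Nat.find_spec hex
      rw [h, derivedSeries_zero] at this
      exact top_ne_bot this
    obtain ⟨i, hi⟩ := Nat.exists_eq_succ_of_ne_zero h0
    refine ⟨derivedSeries G i, derivedSeries_normal G i, Nat.find_min hex (by omega), ?_⟩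
    have h2 := Nat.find_spec hex
    rw [hi, derivedSeries_succ] at h2
    intro a ha b hb
    have h3 := commutator_eq_bot_iff_le_centralizer.mp h2 ha
    exact (mem_centralizer_iff.mp h3 b hb).symm
  obtain ⟨q, hq, hqA⟩ := Nat.exists_prime_and_dvd
    (show Nat.card A ≠ 1 from fun h => hA1 (Subgroup.eq_bot_of_card_eq A h))
  haveI : Fact q.Prime := ⟨hq⟩
  let K0 : Subgroup G :=
    { carrier := {a | a ∈ A ∧ a ^ q = 1}
      one_mem' := ⟨one_mem _, one_pow q⟩
      mul_mem' := fun {a b} ha hb => ⟨mul_mem ha.1 hb.1, by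
        rw [(show Commute a b from hAc a ha.1 b hb.1).mul_pow, ha.2, hb.2, one_mul]⟩
      inv_mem' := fun {a} ha => ⟨inv_mem ha.1, by rw [inv_pow, ha.2, inv_one]⟩ }
  have hK0n : K0.Normal := ⟨fun a ha g => ⟨hAn.conj_mem a ha.1 g, by
    rw [conj_pow, ha.2, mul_one, mul_inv_cancel]⟩⟩
  obtain ⟨a0, ha0⟩ := exists_prime_orderOf_dvd_card' q hqA
  have ha0K : (a0 : G) ∈ K0 := ⟨a0.2, by
    rw [← ha0, ← Subgroup.coe_pow, pow_orderOf_eq_one, Subgroup.coe_one]⟩
  have ha01 : (a0 : G) ≠ 1 := by
    intro h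
    rw [OneMemClass.coe_eq_one] at h
    rw [h, orderOf_one] at ha0
    exact hq.ne_one ha0.symm
  let W : Submodule k V := ⨅ g : K0, LinearMap.ker (ρ (g : G) - 1)
  have hW : ∀ v, v ∈ W ↔ ∀ g ∈ K0, ρ g v = v := fun v => by
    simp [W, Submodule.mem_iInf, sub_eq_zero]
  have hWinv : ∀ g, ∀ v ∈ W, ρ g v ∈ W := by
    intro g v hv
    rw [hW] at hv ⊢
    intro a ha
    have h1 : g⁻¹ * a * g ∈ K0 := by simpa using hK0n.conj_mem a ha g⁻¹
    rw [← Module.End.mul_apply, ← map_mul, show a * g = g * (g⁻¹ * a * g) by group, map_mul,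
      Module.End.mul_apply, hv _ h1]
  have hWbot : W = ⊥ := by
    rcases hirr W hWinv with h | h
    · exact h
    · exfalso
      refine ha01 (hinj ((LinearMap.ext fun v => ?_).trans (map_one ρ).symm))
      have hv : v ∈ W := h ▸ Submodule.mem_top
      simpa using (hW v).mp hv _ ha0K
  haveI : Fintype G := Fintype.ofFinite G
  haveI : Fintype K0 := Fintype.ofFinite _
  haveI : CharP (End k V) ℓ :=
    charP_of_injective_algebraMap (FaithfulSMul.algebraMap_injective k (End k V)) ℓ
  refine ⟨K0, inferInstance, ?_, ?_⟩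
  · intro h
    have hKq : IsPGroup q K0 := fun a => ⟨1, Subtype.ext (by simpa using a.2.2)⟩
    obtain ⟨n, hn⟩ := IsPGroup.iff_card.mp hKq
    rw [← Nat.card_eq_fintype_card, hn, Nat.cast_pow] at h
    have hℓq : ℓ = q := ((Nat.prime_dvd_prime_iff_eq Fact.out hq).mp
      ((CharP.cast_eq_zero_iff k ℓ q).mp (eq_zero_of_pow_eq_zero h)))
    obtain ⟨v, hv, hfix⟩ := exists_common_fixed ρ (Finset.univ.filter (· ∈ K0))
      (fun a ha b hb => hAc a (Finset.mem_filter.mp ha).2.1 b (Finset.mem_filter.mp hb).2.1)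
      (fun a ha => ⟨ℓ, by
        rw [sub_pow_char_of_commute _ (Commute.one_right _), ← map_pow, hℓq,
          (Finset.mem_filter.mp ha).2.2, map_one, one_pow, sub_self]⟩)
    have hvW : v ∈ W := (hW v).mpr fun g hg =>
      hfix g (Finset.mem_filter.mpr ⟨Finset.mem_univ _, hg⟩)
    rw [hWbot, Submodule.mem_bot] at hvW
    exact hv hvW
  · refine LinearMap.ext fun v => ?_
    have hmem : (∑ g : K0, ρ (g : G)) v ∈ W := (hW _).mpr fun a ha => by
      simp only [LinearMap.sum_apply, map_sum, ← Module.End.mul_apply, ← map_mul]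
      exact Fintype.sum_equiv (Equiv.mulLeft (⟨a, ha⟩ : K0)) _ _ fun g => rfl
    rwa [hWbot, Submodule.mem_bot] at hmem

/-- The fixed space of a generator of prime order at least five is less than half. -/
theorem two_mul_fixed_lt [Group.IsSolvable G] {p : ℕ} [Fact p.Prime] (hp5 : 5 ≤ p) {k : Type*}
    [Field k] (ℓ : ℕ) [Fact ℓ.Prime] [CharP k ℓ] {V : Type*} [AddCommGroup V] [Module k V]
    [FiniteDimensional k V] [Nontrivial V] (ρ : G →* End k V) (hinj : Function.Injective ρ)
    (hirr : ∀ U : Submodule k V, (∀ g, ∀ u ∈ U, ρ g u ∈ U) → U = ⊥ ∨ U = ⊤)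
    (x : G) (hx : x ^ p = 1) (hx1 : x ≠ 1) (hgen : Subgroup.normalClosure {x} = ⊤) :
    2 * finrank k (LinearMap.ker (ρ x - 1)) < finrank k V := by
  haveI : Nontrivial G := ⟨⟨x, 1, hx1⟩⟩
  obtain ⟨K0, hF, hK0, hsum⟩ := exists_sum_zero ℓ ρ hinj hirr
  let K := AlgebraicClosure k
  let ρK : G →* End K (K ⊗[k] V) := (Module.End.baseChangeHom k K V).toMonoidHom.comp ρ
  have hρK : ∀ g, ρK g = (ρ g).baseChange K := fun g => rfl
  haveI : Nontrivial (K ⊗[k] V) := Module.nontrivial_of_finrank_pos (R := K) (by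
    rw [Module.finrank_baseChange]; exact finrank_pos)
  have hK0' : (Fintype.card K0 : K) ≠ 0 := by
    rw [← map_natCast (algebraMap k K)]
    exact (map_ne_zero _).mpr hK0
  have h1 := two_mul_fixed_lt_of_sum_zero hp5 x hx hgen K0 hK0' _ (K ⊗[k] V) ρK (by
    show ∑ g : K0, Module.End.baseChangeHom k K V (ρ (g : G)) = 0
    rw [← map_sum, hsum, map_zero]) rfl
  rw [Module.finrank_baseChange] at h1
  have h2 := finrank_ker_le_baseChange K (ρ x - 1)
  rw [LinearMap.baseChange_sub, LinearMap.baseChange_one, ← hρK] at h2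
  omega

end Cfsg.Agent.LAE65.FixedHalf
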