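import Cfsg.Agent.LAE65.FixedHalf.Basic

/-!
# Operators normalizing a Heisenberg-type group of operators
-/

set_option autoImplicit false

namespace Cfsg.Agent.LAE65.FixedHalf

open Module
open scoped commutatorElement

variable {k : Type*} [Field k] {X : Type*} [AddCommGroup X] [Module k X]
  {E : Type*} [Group E]

/-- `ρ` acts by scalars on `Z ⊇ E'` and `Z` is the radical of the commutator pairing. -/
structure Heis (ρ : E →* End k X) (Z : Subgroup E) : Prop where
  scal : ∀ z ∈ Z, ∃ a : k, ρ z = a • 1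
  comm : ∀ x y : E, ⁅x, y⁆ ∈ Z
  rad : ∀ x, x ∉ Z → ∃ y, ρ ⁅x, y⁆ ≠ 1

theorem rho_mul_inv (ρ : E →* End k X) (x : E) : ρ x * ρ x⁻¹ = 1 := by
  rw [← map_mul, mul_inv_cancel, map_one]

theorem rho_inv_mul (ρ : E →* End k X) (x : E) : ρ x⁻¹ * ρ x = 1 := by
  rw [← map_mul, inv_mul_cancel, map_one]

theorem rho_ne_zero [Nontrivial X] (ρ : E →* End k X) (x : E) : ρ x ≠ 0 := by
  intro h
  have h1 := rho_mul_inv ρ x
  rw [h, zero_mul] at h1
  exact zero_ne_one h1

namespace Heis

variable {ρ : E →* End k X} {Z : Subgroup E}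

theorem exists_conj_scalar (h : Heis ρ Z) (x y : E) : ∃ c : k, ρ (y * x * y⁻¹) = c • ρ x := by
  obtain ⟨c, hc⟩ := h.scal _ (h.comm y x)
  refine ⟨c, ?_⟩
  have : y * x * y⁻¹ = ⁅y, x⁆ * x := by simp [commutatorElement_def, mul_assoc]
  rw [this, map_mul, hc, smul_one_mul]

variable [Nontrivial X] [Z.Normal]

/-- The operators of coset representatives are independent. -/
theorem linearIndependent (h : Heis ρ Z) :
    LinearIndependent k fun q : E ⧸ Z => ρ q.out := by
  classical
  have hchi : ∀ q : E ⧸ Z, ∃ χ : E →* k, ∀ y, ρ (y * q.out * y⁻¹) = χ y • ρ q.out := by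
    intro q
    choose c hc using h.exists_conj_scalar q.out
    have hinj := smul_left_injective k (rho_ne_zero ρ q.out)
    refine ⟨{ toFun := c, map_one' := hinj ?_, map_mul' := fun y y' => hinj ?_ }, hc⟩
    · show c 1 • ρ q.out = (1 : k) • ρ q.out
      rw [← hc 1]; simp
    · show c (y * y') • ρ q.out = (c y * c y') • ρ q.out
      have e1 : y * y' * q.out * (y * y')⁻¹ = y * (y' * q.out * y'⁻¹) * y⁻¹ := by
        simp [mul_assoc]
      rw [← hc (y * y'), e1, map_mul, map_mul, hc y', mul_smul_comm, smul_mul_assoc,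
        ← map_mul, ← map_mul, hc y, smul_smul, mul_comm (c y)]
  choose χ hχ using hchi
  have hχinj : Function.Injective χ := by
    intro q q' hqq
    by_contra hne
    obtain ⟨y, hy⟩ := h.rad (q.out⁻¹ * q'.out) (fun hZ => hne (by
      rw [← QuotientGroup.out_eq' q, ← QuotientGroup.out_eq' q']
      exact QuotientGroup.eq.mpr hZ))
    refine hy ?_
    set w := q.out⁻¹ * q'.out with hw
    have h1 : ρ (y * q.out * y⁻¹) * ρ (y * w * y⁻¹) = ρ (y * q.out * y⁻¹) * ρ w := by
      rw [← map_mul, show y * q.out * y⁻¹ * (y * w * y⁻¹) = y * q'.out * y⁻¹ by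
        simp [hw, mul_assoc], hχ q' y, hχ q y, smul_mul_assoc, ← map_mul,
        show q.out * w = q'.out by simp [hw], hqq]
    have h2 : ρ (y * w * y⁻¹) = ρ w := by
      have h3 := congrArg (ρ (y * q.out * y⁻¹)⁻¹ * ·) h1
      simp only [← mul_assoc, rho_inv_mul, one_mul] at h3
      exact h3
    have e2 : ⁅w, y⁆ = w * (y * w * y⁻¹)⁻¹ := by simp [commutatorElement_def, mul_assoc]
    rw [e2, map_mul]
    have h4 : ρ (y * w * y⁻¹)⁻¹ = ρ w⁻¹ := by
      calc ρ (y * w * y⁻¹)⁻¹ = ρ (y * w * y⁻¹)⁻¹ * (ρ w * ρ w⁻¹) := by rw [rho_mul_inv, mul_one]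
        _ = ρ w⁻¹ := by rw [← mul_assoc, ← h2, rho_inv_mul, one_mul]
    rw [h4, rho_mul_inv]
  rw [linearIndependent_iff']
  intro s a ha q hq
  by_contra hne
  obtain ⟨φ, hφ⟩ : ∃ φ : Module.Dual k (End k X), φ (ρ q.out) ≠ 0 := by
    by_contra hc
    push Not at hc
    exact rho_ne_zero ρ q.out ((Module.forall_dual_apply_eq_zero_iff k _).mp hc)
  have h1 : ∑ q' ∈ s, (a q' * φ (ρ q'.out)) • (fun y => χ q' y) = (0 : E → k) := by
    funext y
    have h2 : ρ y * (∑ q' ∈ s, a q' • ρ q'.out) * ρ y⁻¹ = 0 := by rw [ha, mul_zero, zero_mul]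
    rw [Finset.mul_sum, Finset.sum_mul] at h2
    have h3 := congrArg φ h2
    rw [map_sum, map_zero] at h3
    rw [Finset.sum_apply, Pi.zero_apply, ← h3]
    refine Finset.sum_congr rfl fun q' _ => ?_
    rw [mul_smul_comm, smul_mul_assoc, map_smul, ← map_mul, ← map_mul, hχ q' y, map_smul]
    simp only [Pi.smul_apply, smul_eq_mul]
    ring
  have hli : LinearIndependent k fun q' : E ⧸ Z => (fun y => χ q' y : E → k) :=
    (linearIndependent_monoidHom E k).comp χ hχinj
  exact mul_ne_zero hne hφ (linearIndependent_iff'.mp hli s _ h1 q hq)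

omit [Nontrivial X] in
theorem rho_mem_span (h : Heis ρ Z) (x : E) :
    ρ x ∈ Submodule.span k (Set.range fun q : E ⧸ Z => ρ q.out) := by
  obtain ⟨z, hz⟩ := QuotientGroup.mk_out_eq_mul Z x
  obtain ⟨a, ha⟩ := h.scal _ (inv_mem z.2)
  have : x = (x : E ⧸ Z).out * (z : E)⁻¹ := by rw [hz]; simp
  rw [this, map_mul, ha, mul_smul_comm, mul_one]
  exact Submodule.smul_mem _ _ (Submodule.subset_span ⟨_, rfl⟩)

omit [Nontrivial X] in
theorem mul_mem_span (h : Heis ρ Z) {a b : End k X}
    (ha : a ∈ Submodule.span k (Set.range fun q : E ⧸ Z => ρ q.out))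
    (hb : b ∈ Submodule.span k (Set.range fun q : E ⧸ Z => ρ q.out)) :
    a * b ∈ Submodule.span k (Set.range fun q : E ⧸ Z => ρ q.out) := by
  induction ha using Submodule.span_induction with
  | mem x hx =>
    obtain ⟨q, rfl⟩ := hx
    induction hb using Submodule.span_induction with
    | mem y hy =>
      obtain ⟨q', rfl⟩ := hy
      rw [← map_mul]
      exact h.rho_mem_span _
    | zero => rw [mul_zero]; exact Submodule.zero_mem _
    | add y y' _ _ h1 h2 => rw [mul_add]; exact Submodule.add_mem _ h1 h2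
    | smul c y _ h1 => rw [mul_smul_comm]; exact Submodule.smul_mem _ _ h1
  | zero => rw [zero_mul]; exact Submodule.zero_mem _
  | add x x' _ _ h1 h2 => rw [add_mul]; exact Submodule.add_mem _ h1 h2
  | smul c x _ h1 => rw [smul_mul_assoc]; exact Submodule.smul_mem _ _ h1

variable [IsAlgClosed k] [FiniteDimensional k X]

/-- Without invariant subspaces the coset representatives span all operators. -/
theorem span_eq_top (h : Heis ρ Z)
    (hirr : ∀ U : Submodule k X, (∀ x, ∀ u ∈ U, ρ x u ∈ U) → U = ⊥ ∨ U = ⊤) :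
    Submodule.span k (Set.range fun q : E ⧸ Z => ρ q.out) = ⊤ := by
  set A : Subalgebra k (End k X) :=
    (Submodule.span k (Set.range fun q : E ⧸ Z => ρ q.out)).toSubalgebra
      (by simpa using h.rho_mem_span 1) (fun a b => h.mul_mem_span) with hA
  have h1 : A = ⊤ := subalgebra_eq_top A fun U hU => hirr U fun x u hu =>
    hU _ (h.rho_mem_span x) u hu
  rw [eq_top_iff]
  intro f _
  have : f ∈ A := h1 ▸ Algebra.mem_top
  exact this

theorem card_eq (h : Heis ρ Z) [Fintype (E ⧸ Z)]
    (hirr : ∀ U : Submodule k X, (∀ x, ∀ u ∈ U, ρ x u ∈ U) → U = ⊥ ∨ U = ⊤) :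
    Fintype.card (E ⧸ Z) = finrank k X * finrank k X := by
  rw [← finrank_span_eq_card (R := k) h.linearIndependent, h.span_eq_top hirr, finrank_top,
    Module.finrank_linearMap]

end Heis

/-- Restriction to an invariant subspace. -/
def resRep (ρ : E →* End k X) (U : Submodule k X) (hU : ∀ x, ∀ u ∈ U, ρ x u ∈ U) :
    E →* End k U where
  toFun x := (ρ x).restrict (hU x)
  map_one' := LinearMap.ext fun u => Subtype.ext (by simp)
  map_mul' x y := LinearMap.ext fun u => Subtype.ext (by simp)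

/-- The action on the quotient by an invariant subspace. -/
def quoRep (ρ : E →* End k X) (U : Submodule k X) (hU : ∀ x, ∀ u ∈ U, ρ x u ∈ U) :
    E →* End k (X ⧸ U) where
  toFun x := U.mapQ U (ρ x) (fun u hu => hU x u hu)
  map_one' := Submodule.linearMap_qext _ (LinearMap.ext fun u => by simp)
  map_mul' x y := Submodule.linearMap_qext _ (LinearMap.ext fun u => by simp)

theorem heis_of_smul {X' : Type*} [AddCommGroup X'] [Module k X'] [Nontrivial X']
    {ρ : E →* End k X} {Z : Subgroup E} (h : Heis ρ Z) (ρ' : E →* End k X')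
    (hs : ∀ z (a : k), ρ z = a • 1 → ρ' z = a • 1) : Heis ρ' Z := by
  refine ⟨fun z hz => ?_, h.comm, fun x hx => ?_⟩
  · obtain ⟨a, ha⟩ := h.scal z hz
    exact ⟨a, hs z a ha⟩
  · obtain ⟨y, hy⟩ := h.rad x hx
    refine ⟨y, fun h1 => hy ?_⟩
    obtain ⟨a, ha⟩ := h.scal _ (h.comm x y)
    rw [hs _ a ha] at h1
    have ha1 : a = 1 := smul_left_injective k (one_ne_zero (α := End k X')) (by simpa using h1)
    rw [ha, ha1, one_smul]

theorem Heis.res {ρ : E →* End k X} {Z : Subgroup E} (h : Heis ρ Z) (U : Submodule k X)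
    (hU : ∀ x, ∀ u ∈ U, ρ x u ∈ U) [Nontrivial U] : Heis (resRep ρ U hU) Z :=
  heis_of_smul h _ fun z a ha => LinearMap.ext fun u => Subtype.ext (by simp [resRep, ha])

theorem Heis.quo {ρ : E →* End k X} {Z : Subgroup E} (h : Heis ρ Z) (U : Submodule k X)
    (hU : ∀ x, ∀ u ∈ U, ρ x u ∈ U) [Nontrivial (X ⧸ U)] : Heis (quoRep ρ U hU) Z :=
  heis_of_smul h _ fun z a ha =>
    Submodule.linearMap_qext _ (LinearMap.ext fun u => by simp [quoRep, ha])

/-- An irreducible space for `E` extended by one operator is irreducible for `E`. -/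
theorem Heis.irreducible_of_extension [IsAlgClosed k] [FiniteDimensional k X] [Nontrivial X]
    {ρ : E →* End k X} {Z : Subgroup E} [Z.Normal] [Finite (E ⧸ Z)] (h : Heis ρ Z)
    (T : (End k X)ˣ) (σ : MulAut E) (hT : ∀ x, (T : End k X) * ρ x = ρ (σ x) * T)
    (hirr : ∀ U : Submodule k X, (∀ x, ∀ u ∈ U, ρ x u ∈ U) → (∀ u ∈ U, (T : End k X) u ∈ U) →
      U = ⊥ ∨ U = ⊤) :
    ∀ U : Submodule k X, (∀ x, ∀ u ∈ U, ρ x u ∈ U) → U = ⊥ ∨ U = ⊤ := by
  classical
  intro U₀ hU₀
  by_contra hcon
  push Not at hcon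
  obtain ⟨U, hUmin⟩ := exists_minimal_of_wellFoundedLT
    (fun U : Submodule k X => (∀ x, ∀ u ∈ U, ρ x u ∈ U) ∧ U ≠ ⊥ ∧ U ≤ U₀)
    ⟨U₀, hU₀, hcon.1, le_rfl⟩
  obtain ⟨hUinv, hUne, hUU₀⟩ := hUmin.1
  haveI : Nontrivial U := Submodule.nontrivial_iff_ne_bot.mpr hUne
  haveI : Fintype (E ⧸ Z) := Fintype.ofFinite _
  set ρU := resRep ρ U hUinv with hρU
  have hHU : Heis ρU Z := h.res U hUinv
  have hirrU : ∀ W : Submodule k U, (∀ x, ∀ u ∈ W, ρU x u ∈ W) → W = ⊥ ∨ W = ⊤ := by
    intro W hW
    rcases eq_or_ne W ⊥ with hWb | hWb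
    · exact Or.inl hWb
    right
    have h1 : W.map U.subtype = U := by
      refine le_antisymm (Submodule.map_subtype_le U W) (hUmin.2 ⟨?_, ?_, ?_⟩
        (Submodule.map_subtype_le U W))
      · rintro x _ ⟨w, hw, rfl⟩
        exact ⟨ρU x w, hW x w hw, rfl⟩
      · exact fun hb => hWb (Submodule.map_injective_of_injective U.subtype_injective
          (by rw [hb, Submodule.map_bot]))
      · exact (Submodule.map_subtype_le U W).trans hUU₀
    refine Submodule.map_injective_of_injective U.subtype_injective ?_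
    rw [h1, Submodule.map_top, Submodule.range_subtype]
  let b : Basis (E ⧸ Z) k (End k U) :=
    Basis.mk hHU.linearIndependent (hHU.span_eq_top hirrU).ge
  let Φ : End k U →ₗ[k] End k X := b.constr k fun q : E ⧸ Z => ρ q.out
  set A := Submodule.span k (Set.range fun q : E ⧸ Z => ρ q.out) with hA
  have hΦb : ∀ q : E ⧸ Z, Φ (ρU q.out) = ρ q.out := fun q => by
    have : b q = ρU q.out := Basis.mk_apply _ _ q
    rw [← this, Basis.constr_basis]
  have hΦinj : Function.Injective Φ := by
    rw [← LinearMap.ker_eq_bot, LinearMap.ker_eq_bot']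
    intro f hf
    rw [← b.sum_repr f, map_sum] at hf
    have h1 : ∑ q, b.repr f q • ρ q.out = 0 := by
      simpa [Φ, Basis.constr_basis] using hf
    have h2 := Fintype.linearIndependent_iff.mp h.linearIndependent _ h1
    exact b.ext_elem fun q => by simpa using h2 q
  have hΦrange : LinearMap.range Φ = A := by rw [Basis.constr_range]
  have hΦres : ∀ f (u : U), (Φ f) (u : X) = ((f u : U) : X) := by
    intro f u
    have h1 : ((LinearMap.applyₗ (u : X)).comp Φ) =
        U.subtype.comp (LinearMap.applyₗ u) := b.ext fun q => by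
      have : b q = ρU q.out := Basis.mk_apply _ _ q
      rw [LinearMap.comp_apply, LinearMap.comp_apply, this, hΦb]
      rfl
    exact DFunLike.congr_fun h1 f
  have hAinj : ∀ a ∈ A, (∀ u : U, a (u : X) = 0) → a = 0 := by
    intro a ha h0
    rw [← hΦrange] at ha
    obtain ⟨f, rfl⟩ := ha
    have : f = 0 := LinearMap.ext fun u => Subtype.ext (by rw [← hΦres, h0 u]; rfl)
    rw [this, map_zero]
  have hAeq : ∀ a ∈ A, ∀ c ∈ A, (∀ u : U, a (u : X) = c (u : X)) → a = c := fun a ha c hc hac =>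
    sub_eq_zero.mp (hAinj _ (A.sub_mem ha hc) fun u => by simp [hac u])
  have hΦA : ∀ f, Φ f ∈ A := fun f => hΦrange ▸ LinearMap.mem_range_self Φ f
  have hΦmul : ∀ f g, Φ (f * g) = Φ f * Φ g := fun f g =>
    hAeq _ (hΦA _) _ (h.mul_mem_span (hΦA f) (hΦA g)) fun u => by
      rw [Module.End.mul_apply, hΦres, hΦres, hΦres, Module.End.mul_apply]
  have hΦone : Φ 1 = 1 :=
    hAeq _ (hΦA _) _ (by simpa using h.rho_mem_span 1) fun u => by rw [hΦres]; rfl
  have hconj : ∀ a ∈ A, (T : End k X) * a * (T⁻¹ : (End k X)ˣ) ∈ A := by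
    intro a ha
    induction ha using Submodule.span_induction with
    | mem x hx =>
      obtain ⟨q, rfl⟩ := hx
      rw [hT, mul_assoc, Units.mul_inv, mul_one]
      exact h.rho_mem_span _
    | zero => simp
    | add x y _ _ h1 h2 => rw [mul_add, add_mul]; exact A.add_mem h1 h2
    | smul c x _ h1 => rw [mul_smul_comm, smul_mul_assoc]; exact A.smul_mem c h1
  have hex : ∀ f, ∃ g, Φ g = (T : End k X) * Φ f * (T⁻¹ : (End k X)ˣ) := fun f => by
    have := hconj _ (hΦA f)
    rw [← hΦrange] at this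
    exact this
  choose g hg using hex
  let gA : End k U →ₐ[k] End k U :=
    { toFun := g
      map_one' := hΦinj (by rw [hg, hΦone]; simp)
      map_mul' := fun f f' => hΦinj (by
        rw [hg, hΦmul, hΦmul, hg, hg]
        simp [mul_assoc])
      map_zero' := hΦinj (by rw [hg]; simp)
      map_add' := fun f f' => hΦinj (by rw [map_add, hg, hg, hg, map_add, mul_add, add_mul])
      commutes' := fun c => hΦinj (by
        rw [hg, Algebra.algebraMap_eq_smul_one, map_smul, hΦone]
        simp) }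
  have hgbij : Function.Bijective gA := by
    have hinj : Function.Injective gA := fun f f' hff => hΦinj (by
      have h1 := congrArg Φ (show g f = g f' from hff)
      rw [hg, hg, Units.mul_left_inj, Units.mul_right_inj] at h1
      exact h1)
    exact ⟨hinj, (LinearMap.injective_iff_surjective (f := gA.toLinearMap)).mp hinj⟩
  obtain ⟨S, hS⟩ := (AlgEquiv.ofBijective gA hgbij).eq_linearEquivConjAlgEquiv
  have hgS : ∀ f, g f * (S : End k U) = (S : End k U) * f := by
    intro f
    have h1 : g f = (S : End k U) ∘ₗ f ∘ₗ (S.symm : End k U) := DFunLike.congr_fun hS f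
    rw [h1]
    exact LinearMap.ext fun u => by simp
  set x₁ := Φ (S : End k U) with hx₁
  have hx₁comm : ∀ f, (T : End k X) * Φ f * (T⁻¹ : (End k X)ˣ) * x₁ = x₁ * Φ f := fun f => by
    rw [← hg, hx₁, ← hΦmul, hgS, hΦmul]
  have hTx₁ : (T : End k X) * x₁ = x₁ * T := by
    have hgSS : g (S : End k U) = S := by
      have h1 : g (S : End k U) = (S : End k U) ∘ₗ (S : End k U) ∘ₗ (S.symm : End k U) :=
        DFunLike.congr_fun hS (S : End k U)
      rw [h1]
      exact LinearMap.ext fun u => by simp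
    have h2 := hg (S : End k U)
    rw [hgSS, ← hx₁] at h2
    conv_rhs => rw [h2, mul_assoc, Units.inv_mul, mul_one]
  set y := ((T⁻¹ : (End k X)ˣ) : End k X) * x₁ with hy
  have hyΦ : ∀ f, y * Φ f = Φ f * y := fun f => by
    rw [hy, mul_assoc, ← hx₁comm f]
    simp [← mul_assoc]
  have hyT : y * T = (T : End k X) * y := by
    rw [hy, mul_assoc, ← hTx₁]
    simp [← mul_assoc]
  have hyρ : ∀ x, y * ρ x = ρ x * y := fun x => by
    have h1 := h.rho_mem_span x
    rw [← hA, ← hΦrange] at h1
    obtain ⟨f, hf⟩ := h1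
    rw [← hf]
    exact hyΦ f
  obtain ⟨μ, hμ⟩ := Module.End.exists_eigenvalue y
  obtain ⟨v, hv⟩ := hμ.exists_hasEigenvector
  have htop : y.eigenspace μ = ⊤ := by
    refine (hirr _ ?_ ?_).resolve_left fun hb => hv.2 ?_
    · intro x u hu
      rw [Module.End.mem_eigenspace_iff] at hu ⊢
      rw [← Module.End.mul_apply, hyρ, Module.End.mul_apply, hu, map_smul]
    · intro u hu
      rw [Module.End.mem_eigenspace_iff] at hu ⊢
      rw [← Module.End.mul_apply, hyT, Module.End.mul_apply, hu, map_smul]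
    · have : v ∈ y.eigenspace μ := hv.1
      rwa [hb, Submodule.mem_bot] at this
  have hyμ : x₁ = μ • (T : End k X) := by
    have h1 : y = μ • 1 := LinearMap.ext fun u => by
      have : u ∈ y.eigenspace μ := htop ▸ Submodule.mem_top
      exact Module.End.mem_eigenspace_iff.mp this
    have h2 := congrArg ((T : End k X) * ·) h1
    simpa [hy, ← mul_assoc, mul_smul_comm] using h2
  have hμ0 : μ ≠ 0 := by
    intro h0
    obtain ⟨u, hu⟩ := exists_ne (0 : U)
    refine hu (S.injective (Subtype.ext ?_))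
    have h1 := hΦres (S : End k U) u
    rw [← hx₁, hyμ, h0, zero_smul] at h1
    simpa using h1.symm
  have hTU : ∀ u ∈ U, (T : End k X) u ∈ U := by
    intro u hu
    have h1 := hΦres (S : End k U) ⟨u, hu⟩
    rw [← hx₁, hyμ, LinearMap.smul_apply] at h1
    have h2 : μ • (T : End k X) u ∈ U := h1 ▸ SetLike.coe_mem _
    simpa [smul_smul, inv_mul_cancel₀ hμ0] using U.smul_mem μ⁻¹ h2
  rcases hirr U hUinv hTU with h1 | h1
  · exact hUne h1
  · exact hcon.2 (eq_top_iff.mpr (h1 ▸ hUU₀))

/-- An operator normalizing a Heisenberg-type group, with few orbits on it, fixes less than half. -/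
theorem Heis.two_mul_finrank_ker_lt [IsAlgClosed k] {Z : Subgroup E} [Z.Normal] [Finite (E ⧸ Z)]
    (σ : MulAut E) (hσ : ∃ x, σ x * x⁻¹ ∉ Z) (R : Finset (E ⧸ Z))
    (hR : ∀ u d : ℕ, u * u = Nat.card (E ⧸ Z) → u ≤ 2 * d → R.card ≤ d * d)
    (horb : ∀ q : E ⧸ Z, ∃ r ∈ R, ∃ j : ℕ, q = ((σ ^ j) r.out : E)) :
    ∀ (n : ℕ) (X : Type*) [AddCommGroup X] [Module k X] [FiniteDimensional k X] [Nontrivial X]
      (ρ : E →* End k X), Heis ρ Z → ∀ (T : (End k X)ˣ),
      (∀ x, (T : End k X) * ρ x = ρ (σ x) * T) → finrank k X = n →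
      2 * finrank k (LinearMap.ker ((T : End k X) - 1)) < finrank k X := by
  intro n
  induction n using Nat.strong_induction_on with
  | _ n ih =>
  intro X _ _ _ _ ρ h T hT hn
  classical
  by_cases hirr : ∀ U : Submodule k X, (∀ x, ∀ u ∈ U, ρ x u ∈ U) →
      (∀ u ∈ U, (T : End k X) u ∈ U) → U = ⊥ ∨ U = ⊤
  · haveI : Fintype (E ⧸ Z) := Fintype.ofFinite _
    have hirrE := h.irreducible_of_extension T σ hT hirr
    refine two_mul_finrank_ker_lt_of_orbits (fun q : E ⧸ Z => ρ q.out) (h.span_eq_top hirrE)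
      T ?_ R (fun d hd => hR _ d (by
        rw [Nat.card_eq_fintype_card, h.card_eq hirrE]) hd) ?_
    · intro h1
      obtain ⟨x, hx⟩ := hσ
      obtain ⟨y, hy⟩ := h.rad _ hx
      refine hy ?_
      have h2 : ρ (σ x * x⁻¹) = 1 := by
        have h3 := hT x
        rw [h1, one_mul, mul_one] at h3
        rw [map_mul, ← h3, rho_mul_inv]
      have e : ⁅σ x * x⁻¹, y⁆ = (σ x * x⁻¹) * (y * (σ x * x⁻¹)⁻¹ * y⁻¹) := by
        simp [commutatorElement_def, mul_assoc]
      have h4 : ρ (σ x * x⁻¹)⁻¹ = 1 := by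
        have := rho_mul_inv ρ (σ x * x⁻¹)
        rwa [h2, one_mul] at this
      rw [e, map_mul, h2, one_mul, map_mul, map_mul, h4, mul_one, rho_mul_inv]
    · intro q
      obtain ⟨r, hr, j, hj⟩ := horb q
      set L := LinearMap.range (LinearMap.mulLeft k (T : End k X) - LinearMap.mulRight k (T : End k X))
      have hstep : ∀ x, ρ (σ x) - ρ x ∈ L := fun x =>
        ⟨ρ x * ((T⁻¹ : (End k X)ˣ) : End k X), by
          show (T : End k X) * (ρ x * _) - ρ x * _ * (T : End k X) = _
          rw [← mul_assoc, hT, mul_assoc, Units.mul_inv, mul_one, mul_assoc, Units.inv_mul,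
            mul_one]⟩
      have hpow : ∀ j : ℕ, ρ ((σ ^ j) r.out) - ρ r.out ∈ L := by
        intro j
        induction j with
        | zero => simp
        | succ j ihj =>
          rw [pow_succ', MulAut.mul_apply]
          have := L.add_mem (hstep ((σ ^ j) r.out)) ihj
          simpa using this
      obtain ⟨z, hz⟩ := QuotientGroup.mk_out_eq_mul Z ((σ ^ j) r.out)
      obtain ⟨a, ha⟩ := h.scal _ z.2
      show ρ q.out ∈ _
      rw [hj, hz, map_mul, ha, mul_smul_comm, mul_one]
      refine Submodule.smul_mem _ _ ?_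
      have h1 : ρ ((σ ^ j) r.out) = ρ r.out + (ρ ((σ ^ j) r.out) - ρ r.out) := by abel
      rw [h1]
      exact Submodule.add_mem_sup (Submodule.subset_span ⟨r, hr, rfl⟩) (hpow j)
  · push Not at hirr
    obtain ⟨U, hUρ, hUT, hUb, hUt⟩ := hirr
    haveI : Nontrivial U := Submodule.nontrivial_iff_ne_bot.mpr hUb
    haveI : Nontrivial (X ⧸ U) := Submodule.Quotient.nontrivial_iff.mpr hUt
    have hsum := U.finrank_quotient_add_finrank
    have hposU : 0 < finrank k U := finrank_pos
    have hposQ : 0 < finrank k (X ⧸ U) := finrank_pos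
    have hTi : ∀ u ∈ U, ((T⁻¹ : (End k X)ˣ) : End k X) u ∈ U := by
      intro u hu
      let f : U →ₗ[k] U := (T : End k X).restrict hUT
      have hfi : Function.Injective f := fun a b hab => Subtype.ext (by
        have h1 := congrArg (fun c : U => ((T⁻¹ : (End k X)ˣ) : End k X) (c : X)) hab
        simpa [f, ← Module.End.mul_apply] using h1)
      obtain ⟨v, hv⟩ := LinearMap.injective_iff_surjective.mp hfi ⟨u, hu⟩
      have hv' : (T : End k X) (v : X) = u := congrArg Subtype.val hv
      rw [← hv', ← Module.End.mul_apply, Units.inv_mul]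
      exact v.2
    let TU : (End k U)ˣ :=
      { val := (T : End k X).restrict hUT
        inv := ((T⁻¹ : (End k X)ˣ) : End k X).restrict hTi
        val_inv := LinearMap.ext fun u => Subtype.ext (DFunLike.congr_fun T.mul_inv (u : X))
        inv_val := LinearMap.ext fun u => Subtype.ext (DFunLike.congr_fun T.inv_mul (u : X)) }
    let TQ : (End k (X ⧸ U))ˣ :=
      { val := U.mapQ U (T : End k X) hUT
        inv := U.mapQ U ((T⁻¹ : (End k X)ˣ) : End k X) hTi
        val_inv := Submodule.linearMap_qext _ (LinearMap.ext fun u =>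
          congrArg (Submodule.Quotient.mk (p := U)) (DFunLike.congr_fun T.mul_inv u))
        inv_val := Submodule.linearMap_qext _ (LinearMap.ext fun u =>
          congrArg (Submodule.Quotient.mk (p := U)) (DFunLike.congr_fun T.inv_mul u)) }
    have h1 := ih (finrank k U) (by omega) U (resRep ρ U hUρ) (h.res U hUρ) TU
      (fun x => LinearMap.ext fun u => Subtype.ext (DFunLike.congr_fun (hT x) (u : X))) rfl
    have h2 := ih (finrank k (X ⧸ U)) (by omega) (X ⧸ U) (quoRep ρ U hUρ) (h.quo U hUρ) TQ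
      (fun x => Submodule.linearMap_qext _ (LinearMap.ext fun u =>
        congrArg (Submodule.Quotient.mk (p := U)) (DFunLike.congr_fun (hT x) u))) rfl
    set K := LinearMap.ker ((T : End k X) - 1) with hK
    let π : K →ₗ[k] LinearMap.ker ((TQ : End k (X ⧸ U)) - 1) :=
      (U.mkQ.comp K.subtype).codRestrict _ (fun x => by
        have hx : (T : End k X) (x : X) = x := sub_eq_zero.mp x.2
        simp [TQ, hx])
    have h3 := π.finrank_range_add_finrank_ker
    have h4 := Submodule.finrank_le (LinearMap.range π)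
    let i : LinearMap.ker π →ₗ[k] LinearMap.ker ((TU : End k U) - 1) :=
      { toFun := fun x => ⟨⟨(x : K), (Submodule.Quotient.mk_eq_zero U).mp
          (congrArg Subtype.val x.2)⟩, by
            have hx : (T : End k X) ((x : K) : X) = ((x : K) : X) := sub_eq_zero.mp (x : K).2
            rw [LinearMap.mem_ker, LinearMap.sub_apply, sub_eq_zero]
            exact Subtype.ext hx⟩
        map_add' := fun x y => rfl
        map_smul' := fun c x => rfl }
    have h5 : finrank k (LinearMap.ker π) ≤ finrank k (LinearMap.ker ((TU : End k U) - 1)) :=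
      LinearMap.finrank_le_finrank_of_injective (f := i) fun x y hxy => by
        apply Subtype.ext; apply Subtype.ext
        exact congrArg (fun w : LinearMap.ker ((TU : End k U) - 1) => ((w : U) : X)) hxy
    omega

end Cfsg.Agent.LAE65.FixedHalf
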