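import Cfsg.Agent.LAE65.FixedHalf.Orbits

/-!
# Fixed spaces in imprimitive representations of solvable groups
-/

set_option autoImplicit false

namespace Cfsg.Agent.LAE65.FixedHalf

open Module Subgroup
open scoped Pointwise commutatorElement

variable {G : Type*} [Group G] [Finite G]

/-- The number of cosets of `M` met by `H` is `M.relIndex H`. -/
theorem card_orbit_one (M H : Subgroup G) :
    Nat.card (Set.range fun h : H => ((h : G) : G ⧸ M)) = M.relIndex H := by
  have h1 : MulAction.orbit H ((1 : G) : G ⧸ M) = Set.range fun h : H => ((h : G) : G ⧸ M) := by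
    ext q
    constructor
    · rintro ⟨h, rfl⟩
      exact ⟨h, by show _ = (((h : G) * 1 : G) : G ⧸ M); rw [mul_one]⟩
    · rintro ⟨h, rfl⟩
      exact ⟨h, by show (((h : G) * 1 : G) : G ⧸ M) = _; rw [mul_one]⟩
  have h2 : MulAction.stabilizer H ((1 : G) : G ⧸ M) = M.subgroupOf H := by
    ext h
    show (((h : G) * 1 : G) : G ⧸ M) = ((1 : G) : G ⧸ M) ↔ (h : G) ∈ M
    rw [mul_one, eq_comm, QuotientGroup.eq]
    simp
  rw [← h1, relIndex, ← h2, MulAction.index_stabilizer, Nat.card_coe_set_eq]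

/-- In a primitive action of a solvable group an element of order prime to 2 outside the kernel
fixes at most a third of the points. -/
theorem three_mul_fixed_le [Group.IsSolvable G] {p : ℕ} [hp : Fact p.Prime] (hp2 : p ≠ 2)
    (M : Subgroup G) (hM : IsCoatom M) (x : G) (hx : x ^ p = 1)
    (hgen : Subgroup.normalClosure {x} = ⊤) :
    3 * Nat.card {q : G ⧸ M // x • q = q} ≤ M.index := by
  classical
  by_cases hfix : ∃ g : G, x • (g : G ⧸ M) = (g : G ⧸ M)
  swap
  · push Not at hfix
    haveI : IsEmpty {q : G ⧸ M // x • q = q} := ⟨fun q => by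
      obtain ⟨g, hg⟩ := QuotientGroup.mk_surjective q.1
      exact hfix g (by rw [hg]; exact q.2)⟩
    simp
  obtain ⟨g, hg⟩ := hfix
  set y := g⁻¹ * x * g with hy
  have hyM : y ∈ M := by
    have : ((x * g : G) : G ⧸ M) = (g : G ⧸ M) := hg
    rw [eq_comm, QuotientGroup.eq] at this
    simpa [hy, mul_assoc] using this
  have hygen : ∀ H : Subgroup G, H.Normal → y ∈ H → H = ⊤ := by
    intro H hH hyH
    rw [eq_top_iff, ← hgen]
    refine Subgroup.normalClosure_le_normal (Set.singleton_subset_iff.mpr ?_)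
    have := hH.conj_mem _ hyH g
    simpa [hy, mul_assoc] using this
  have hcardeq : Nat.card {q : G ⧸ M // x • q = q} = Nat.card {q : G ⧸ M // y • q = q} := by
    refine Nat.card_congr ((MulAction.toPerm g⁻¹).subtypeEquiv fun q => ?_)
    show x • q = q ↔ y • g⁻¹ • q = g⁻¹ • q
    rw [hy, smul_smul, mul_inv_cancel_right, mul_smul, smul_left_cancel_iff]
  rw [hcardeq]
  set K := M.normalCore with hK
  haveI hKn : K.Normal := normalCore_normal M
  have hKM : K ≤ M := normalCore_le M
  -- a normal subgroup, abelian modulo the core and outside it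
  obtain ⟨n, hn⟩ := Group.IsSolvable.solvable (G := G)
  have hex : ∃ j, derivedSeries G (j + 1) ≤ K := ⟨n, (derivedSeries_antitone G (Nat.le_succ n)).trans
    (hn.le.trans bot_le)⟩
  set j := Nat.find hex
  set N := derivedSeries G j with hN
  haveI hNn : N.Normal := derivedSeries_normal G j
  have hNK : ¬ N ≤ K := by
    rcases Nat.eq_zero_or_pos j with h0 | h0
    · rw [hN, h0, derivedSeries_zero]
      exact fun h => hM.1 (top_le_iff.mp (h.trans hKM))
    · have := Nat.find_min hex (show j - 1 < j by omega)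
      rwa [show j - 1 + 1 = j by omega] at this
  have hNab : ∀ a ∈ N, ∀ b ∈ N, ⁅a, b⁆ ∈ K := fun a ha b hb =>
    Nat.find_spec hex (by rw [derivedSeries_succ]; exact commutator_mem_commutator ha hb)
  have hNMtop : N ⊔ M = ⊤ := by
    refine hM.2 _ (lt_of_le_of_ne le_sup_right fun h => hNK ?_)
    exact Subgroup.normal_le_normalCore.mpr (h.ge.trans' le_sup_left)
  have hNMK : N ⊓ M ≤ K := by
    have hKN : N ⊓ K ≤ N ⊓ M := inf_le_inf_left _ hKM
    haveI : (N ⊓ M).Normal := by
      rw [← normalizer_eq_top_iff, eq_top_iff, ← hNMtop, sup_le_iff]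
      refine ⟨fun a ha => ?_, ?_⟩
      · rw [Subgroup.mem_normalizer_iff]
        have key : ∀ a ∈ N, ∀ b ∈ N ⊓ M, a * b * a⁻¹ ∈ N ⊓ M := by
          intro a ha b hb
          have h1 : ⁅a, b⁆ * b ∈ N ⊓ M := mul_mem
            (hKN (mem_inf.mpr ⟨mul_mem (mul_mem (mul_mem ha hb.1) (inv_mem ha)) (inv_mem hb.1),
              hNab a ha b hb.1⟩)) hb
          simpa [commutatorElement_def, mul_assoc] using h1
        intro b
        refine ⟨key a ha b, fun hb => ?_⟩
        simpa [mul_assoc] using key a⁻¹ (inv_mem ha) _ hb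
      · intro a ha
        rw [Subgroup.mem_normalizer_iff]
        intro b
        simp only [mem_inf]
        refine and_congr ⟨fun hb => hNn.conj_mem b hb a, fun hb => ?_⟩
          (mem_normalizer_iff.mp (le_normalizer ha) b)
        simpa [mul_assoc] using hNn.conj_mem _ hb a⁻¹
    exact Subgroup.normal_le_normalCore.mpr inf_le_right
  -- the fixed points
  let π := QuotientGroup.mk' K
  let F : Subgroup G := N ⊓ (π.comp (MulAut.conj y).toMonoidHom).eqLocus π
  have hmemF : ∀ a, a ∈ F ↔ a ∈ N ∧ π (y * a * y⁻¹) = π a := fun a => Iff.rfl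
  have hFN : F ≤ N := inf_le_left
  have hFiff : ∀ a ∈ N, (y • (a : G ⧸ M) = (a : G ⧸ M) ↔ a ∈ F) := by
    intro a ha
    rw [hmemF]
    show ((y * a : G) : G ⧸ M) = (a : G ⧸ M) ↔ _
    rw [eq_comm, QuotientGroup.eq]
    have hyn : y * a * y⁻¹ ∈ N := hNn.conj_mem a ha y
    constructor
    · intro h
      refine ⟨ha, ((QuotientGroup.eq).mpr (hNMK (mem_inf.mpr ⟨?_, ?_⟩))).symm⟩
      · exact mul_mem (inv_mem ha) hyn
      · have := mul_mem h (inv_mem hyM)
        simpa [mul_assoc] using this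
    · rintro ⟨-, h⟩
      have h1 : a⁻¹ * (y * a * y⁻¹) ∈ M := hKM (QuotientGroup.eq.mp h.symm)
      simpa [mul_assoc] using mul_mem h1 hyM
  have hsurj : ∀ q : G ⧸ M, ∃ a ∈ N, (a : G ⧸ M) = q := by
    intro q
    obtain ⟨b, rfl⟩ := QuotientGroup.mk_surjective q
    have hb : b ∈ ((N ⊔ M : Subgroup G) : Set G) := by rw [hNMtop]; trivial
    rw [Subgroup.normal_mul] at hb
    obtain ⟨a, ha, m, hm, rfl⟩ := hb
    exact ⟨a, ha, QuotientGroup.eq.mpr (by simpa using hm)⟩
  have hcardF : Nat.card {q : G ⧸ M // y • q = q} = M.relIndex F := by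
    rw [← card_orbit_one]
    refine Nat.card_congr (Equiv.subtypeEquivRight fun q => ?_)
    obtain ⟨a, ha, rfl⟩ := hsurj q
    constructor
    · intro h
      exact ⟨⟨a, (hFiff a ha).mp h⟩, rfl⟩
    · rintro ⟨⟨b, hb⟩, hbq⟩
      rw [← hbq]
      exact (hFiff b (hFN hb)).mpr hb
  have hcardN : M.index = M.relIndex N := by
    rw [← card_orbit_one, Subgroup.index]
    have huniv : Set.range (fun h : N => ((h : G) : G ⧸ M)) = Set.univ := by
      refine Set.eq_univ_of_forall fun q => ?_
      obtain ⟨a, ha, haq⟩ := hsurj q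
      exact ⟨⟨a, ha⟩, haq⟩
    rw [huniv]
    exact (Nat.card_congr (Equiv.Set.univ _)).symm
  have hMNF : M ⊓ N ≤ F := by
    rintro a ⟨haM, haN⟩
    rw [hmemF]
    refine ⟨haN, QuotientGroup.eq.mpr ?_⟩
    have h1 : a ∈ K := hNMK (mem_inf.mpr ⟨haN, haM⟩)
    exact mul_mem (inv_mem (hKn.conj_mem a h1 y)) h1
  have hmul : M.relIndex F * F.relIndex N = M.relIndex N := by
    rw [← inf_relIndex_right M N, ← inf_relIndex_right M F,
      show M ⊓ F = M ⊓ N from le_antisymm (inf_le_inf_left _ hFN) (le_inf inf_le_left hMNF)]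
    exact relIndex_mul_relIndex _ _ _ hMNF hFN
  rw [hcardF, hcardN, ← hmul, mul_comm (M.relIndex F)]
  refine Nat.mul_le_mul_right _ ?_
  have hne1 : F.relIndex N ≠ 1 := by
    intro h1
    have hNF : N ≤ F := relIndex_eq_one.mp h1
    -- `N` is central modulo the core
    let C : Subgroup G := (Subgroup.centralizer ((N.map π) : Set (G ⧸ K))).comap π
    have hyC : y ∈ C := by
      show π y ∈ Subgroup.centralizer _
      rw [mem_centralizer_iff]
      rintro _ ⟨a, ha, rfl⟩
      have h2 := ((hmemF a).mp (hNF ha)).2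
      rw [map_mul, map_mul, map_inv, mul_inv_eq_iff_eq_mul] at h2
      exact h2.symm
    haveI : (N.map π).Normal := hNn.map π (QuotientGroup.mk'_surjective K)
    have hCn : C.Normal := Subgroup.Normal.comap inferInstance π
    have hCtop := hygen C hCn hyC
    have hMn : M.Normal := by
      rw [← normalizer_eq_top_iff, eq_top_iff, ← hNMtop, sup_le_iff]
      refine ⟨fun a ha => ?_, le_normalizer⟩
      rw [Subgroup.mem_normalizer_iff]
      have key : ∀ a ∈ N, ∀ b ∈ M, a * b * a⁻¹ ∈ M := by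
        intro a ha b hb
        have hbC : π b ∈ Subgroup.centralizer ((N.map π) : Set (G ⧸ K)) :=
          show b ∈ C from hCtop ▸ mem_top _
        have h3 : π (a * b) = π (b * a) := by
          rw [map_mul, map_mul]
          exact mem_centralizer_iff.mp hbC _ (mem_map_of_mem π ha)
        have h4 : (b * a)⁻¹ * (a * b) ∈ M := hKM (QuotientGroup.eq.mp h3.symm)
        have h5 : a * b * a⁻¹ = b * (a * ((b * a)⁻¹ * (a * b)) * a⁻¹) := by simp [mul_assoc]
        rw [h5]
        exact mul_mem hb (hKM (hKn.conj_mem _ (QuotientGroup.eq.mp h3.symm) a))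
      intro b
      refine ⟨key a ha b, fun hb => ?_⟩
      simpa [mul_assoc] using key a⁻¹ (inv_mem ha) _ hb
    exact hM.1 (hygen M hMn hyM)
  have hne2 : F.relIndex N ≠ 2 := by
    intro h2
    obtain ⟨a, ha, haF⟩ : ∃ a ∈ N, a ∉ F := by
      by_contra hc
      push Not at hc
      exact hne1 (relIndex_eq_one.mpr hc)
    set c := y * a * y⁻¹ * a⁻¹ with hc
    have hconj : ∀ b ∈ F, y * b * y⁻¹ ∈ F := by
      intro b hb
      obtain ⟨hbN, hb2⟩ := (hmemF b).mp hb
      rw [hmemF]
      refine ⟨hNn.conj_mem b hbN y, ?_⟩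
      rw [map_mul π (y * (y * b * y⁻¹)), map_mul π y, hb2, ← map_mul, ← map_mul, hb2]
    have hyaN : y * a * y⁻¹ ∈ N := hNn.conj_mem a ha y
    have hcN : c ∈ N := mul_mem hyaN (inv_mem ha)
    have hcF : c ∈ F := by
      have hFs : (F.subgroupOf N).index = 2 := h2
      have h3 := mul_mem_iff_of_index_two hFs (a := (⟨_, hyaN⟩ : N)) (b := (⟨_, inv_mem ha⟩ : N))
      refine h3.mpr (iff_of_false ?_ fun h => haF (inv_mem_iff.mp h))
      intro h
      refine haF ?_
      have hit : ∀ i : ℕ, y ^ (i + 1) * a * (y ^ (i + 1))⁻¹ ∈ F := by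
        intro i
        induction i with
        | zero => rw [zero_add, pow_one]; exact h
        | succ i ih =>
          have := hconj _ ih
          rw [pow_succ' y (i + 1)]
          simpa [mul_assoc] using this
      have hyp : y ^ p = 1 := by
        have h4 : ∀ i : ℕ, y ^ i = g⁻¹ * x ^ i * g := by
          intro i
          induction i with
          | zero => simp
          | succ i ih => rw [pow_succ, ih, pow_succ]; simp [hy, mul_assoc]
        rw [h4, hx]; simp
      have h5 := hit (p - 1)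
      rw [Nat.sub_add_cancel hp.out.pos, hyp] at h5
      simpa using h5
    obtain ⟨-, hcfix⟩ := (hmemF c).mp hcF
    have hstep : π (y * a * y⁻¹) = π c * π a := by
      rw [← map_mul]; simp [hc]
    have hiter : ∀ i : ℕ, π (y ^ i * a * (y ^ i)⁻¹) = π c ^ i * π a := by
      intro i
      induction i with
      | zero => simp
      | succ i ih =>
        have h6 : π (y * c * y⁻¹) = π c := hcfix
        have h7 : y ^ (i + 1) * a * (y ^ (i + 1))⁻¹ = y * (y ^ i * a * (y ^ i)⁻¹) * y⁻¹ := by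
          rw [pow_succ']; simp [mul_assoc]
        rw [h7, map_mul, map_mul, ih, map_inv]
        have h8 : π y * π c = π c * π y := by
          rw [map_mul, map_mul, map_inv, mul_inv_eq_iff_eq_mul] at h6
          exact h6
        have h9 : Commute (π y) (π c ^ i) := (show Commute (π y) (π c) from h8).pow_right i
        have h10 : π y * π a * (π y)⁻¹ = π c * π a := by
          have h11 := hstep
          rwa [map_mul, map_mul, map_inv] at h11
        calc π y * (π c ^ i * π a) * (π y)⁻¹ = π c ^ i * (π y * π a * (π y)⁻¹) := by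
              rw [← mul_assoc (π y), h9.eq]; simp [mul_assoc]
          _ = π c ^ (i + 1) * π a := by rw [h10, pow_succ, mul_assoc]
    have hyp : y ^ p = 1 := by
      have h4 : ∀ i : ℕ, y ^ i = g⁻¹ * x ^ i * g := by
        intro i
        induction i with
        | zero => simp
        | succ i ih => rw [pow_succ, ih, pow_succ]; simp [hy, mul_assoc]
      rw [h4, hx]; simp
    have hcp : π c ^ p = 1 := by
      have h11 := hiter p
      rw [hyp] at h11
      simpa using h11
    have hc2 : π c ^ 2 = 1 := by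
      have ha2 : (⟨a, ha⟩ : N) ^ 2 ∈ F.subgroupOf N := sq_mem_of_index_two h2 _
      obtain ⟨-, hfix2⟩ := (hmemF _).mp (show a ^ 2 ∈ F from ha2)
      have hcomm : π a * π c = π c * π a := by
        have := QuotientGroup.eq_one_iff (N := K) (⁅a, c⁆) |>.mpr (hNab a ha c hcN)
        have h12 : π ⁅a, c⁆ = 1 := this
        rw [commutatorElement_def, map_mul, map_mul, map_mul, map_inv, map_inv,
          mul_inv_eq_one, mul_inv_eq_iff_eq_mul] at h12
        exact h12
      have h13 : π (y * a ^ 2 * y⁻¹) = π c ^ 2 * π (a ^ 2) := by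
        have h14 : y * a ^ 2 * y⁻¹ = (y * a * y⁻¹) * (y * a * y⁻¹) := by
          rw [pow_two]; simp [mul_assoc]
        rw [h14, map_mul, hstep, map_pow, pow_two, pow_two]
        calc π c * π a * (π c * π a) = π c * (π a * π c) * π a := by simp [mul_assoc]
          _ = π c * π c * (π a * π a) := by rw [hcomm]; simp [mul_assoc]
      rw [hfix2] at h13
      exact (eq_comm.mp (mul_eq_right.mp h13.symm))  ▸ rfl
    have hc1 : π c = 1 := by
      have hcop : Nat.Coprime p 2 := (Nat.coprime_primes hp.out Nat.prime_two).mpr hp2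
      have h15 := pow_gcd_eq_one.mpr ⟨hcp, hc2⟩
      rwa [hcop.gcd_eq_one, pow_one] at h15
    refine haF ((hmemF a).mpr ⟨ha, ?_⟩)
    rw [hstep, hc1, one_mul]
  have hne0 : F.relIndex N ≠ 0 := index_ne_zero_of_finite
  omega

variable {k : Type*} [Field k] {V : Type*} [AddCommGroup V] [Module k V] [FiniteDimensional k V]

/-- A system of imprimitivity over a maximal subgroup bounds the fixed space. -/
theorem two_mul_fixed_lt_of_blocks {p : ℕ} [hp : Fact p.Prime] (hp5 : 5 ≤ p) (ρ : G →* End k V)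
    (M : Subgroup G) (x : G) (hx : x ^ p = 1)
    (W : G ⧸ M → Submodule k V) (hind : iSupIndep W) (htop : ⨆ q, W q = ⊤)
    (hne : ∀ q, W q ≠ ⊥) (hmap : ∀ g q, (W q).map (ρ g) = W (g • q))
    (hfix : 3 * Nat.card {q : G ⧸ M // x • q = q} ≤ M.index) :
    2 * finrank k (LinearMap.ker (ρ x - 1)) < finrank k V := by
  classical
  haveI : Fintype (G ⧸ M) := Fintype.ofFinite _
  haveI : Nonempty (G ⧸ M) := ⟨((1 : G) : G ⧸ M)⟩
  let S : (Π q, W q) →ₗ[k] V := ∑ q, (W q).subtype.comp (LinearMap.proj q)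
  have hS : ∀ a, S a = ∑ q, ((a q : W q) : V) := fun a => by simp [S]
  have hSinj : Function.Injective S := by
    rw [← LinearMap.ker_eq_bot, LinearMap.ker_eq_bot']
    intro a ha
    funext q
    apply Subtype.ext
    rw [hS, ← Finset.add_sum_erase _ _ (Finset.mem_univ q)] at ha
    have h1 : ((a q : W q) : V) ∈ ⨆ (j) (_ : j ≠ q), W j := by
      rw [eq_neg_of_add_eq_zero_left ha]
      refine neg_mem (Submodule.sum_mem _ fun j hj => ?_)
      exact Submodule.mem_iSup_of_mem j (Submodule.mem_iSup_of_mem (Finset.ne_of_mem_erase hj)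
        (a j).2)
    exact Submodule.disjoint_def.mp (hind q) _ (a q).2 h1
  have hSsurj : Function.Surjective S := by
    rw [← LinearMap.range_eq_top, eq_top_iff, ← htop, iSup_le_iff]
    intro q v hv
    refine ⟨Pi.single q ⟨v, hv⟩, ?_⟩
    rw [hS, Finset.sum_eq_single q]
    · simp
    · intro j _ hj; simp [hj]
    · simp
  let e := LinearEquiv.ofBijective S ⟨hSinj, hSsurj⟩
  set q₀ : G ⧸ M := ((1 : G) : G ⧸ M)
  set m := finrank k (W q₀)
  have hm : ∀ q, finrank k (W q) = m := by
    intro q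
    obtain ⟨g, rfl⟩ := QuotientGroup.mk_surjective q
    have h1 : (g : G ⧸ M) = g • q₀ := by
      show (g : G ⧸ M) = ((g * 1 : G) : G ⧸ M)
      rw [mul_one]
    rw [h1, ← hmap]
    have hinj : Function.Injective (ρ g) := fun v w h => by
      have := congrArg (ρ g⁻¹) h
      simpa [← Module.End.mul_apply, ← map_mul] using this
    exact (Submodule.equivMapOfInjective _ hinj _).finrank_eq.symm
  have hmpos : 0 < m := Nat.pos_of_ne_zero fun h => hne q₀ (Submodule.finrank_eq_zero.mp h)
  have hn : finrank k V = Fintype.card (G ⧸ M) * m := by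
    rw [← e.finrank_eq, Module.finrank_pi_fintype]
    simp [hm]
  let τ : Equiv.Perm (G ⧸ M) := MulAction.toPermHom G (G ⧸ M) x
  obtain ⟨R, hR, hRle, -⟩ := exists_orbit_reps_univ τ (by
    rw [← map_pow, hx, map_one])
  set K := LinearMap.ker (ρ x - 1)
  let P : K →ₗ[k] Π r : R, W r :=
    LinearMap.pi fun r => (LinearMap.proj (r : G ⧸ M)).comp
      (e.symm.toLinearMap.comp K.subtype)
  have hPinj : Function.Injective P := by
    rw [← LinearMap.ker_eq_bot, LinearMap.ker_eq_bot']
    intro v hv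
    set a := e.symm (v : V) with ha
    have haS : S a = v := e.apply_symm_apply _
    have hxv : ρ x (v : V) = v := sub_eq_zero.mp v.2
    -- the components are permuted by `ρ x`
    have hmem : ∀ q, ρ x ((a (x⁻¹ • q) : W (x⁻¹ • q)) : V) ∈ W q := fun q => by
      have h1 : ρ x ((a (x⁻¹ • q) : W (x⁻¹ • q)) : V) ∈ (W (x⁻¹ • q)).map (ρ x) :=
        Submodule.mem_map_of_mem (a (x⁻¹ • q)).2
      rwa [hmap, smul_inv_smul] at h1
    let b : Π q, W q := fun q => ⟨_, hmem q⟩
    have hb : b = a := hSinj (by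
      rw [hS, haS]
      show ∑ q, ρ x ((a (x⁻¹ • q) : W (x⁻¹ • q)) : V) = v
      rw [← map_sum]
      rw [show ∑ q, ((a (x⁻¹ • q) : W (x⁻¹ • q)) : V) = ∑ q, ((a q : W q) : V) from
        Equiv.sum_comp (MulAction.toPerm x⁻¹) (fun q => ((a q : W q) : V)), ← hS, haS, hxv])
    have hz : ∀ j : ℕ, ∀ r ∈ R, a ((τ ^ j) r) = 0 := by
      intro j r hr
      induction j with
      | zero => exact congrFun hv ⟨r, hr⟩
      | succ j ih =>
        rw [pow_succ', Equiv.Perm.mul_apply]
        have h2 := congrFun hb (τ ((τ ^ j) r))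
        rw [← h2]
        apply Subtype.ext
        have h3 : x⁻¹ • τ ((τ ^ j) r) = (τ ^ j) r := inv_smul_smul x _
        show ρ x ((a (x⁻¹ • τ ((τ ^ j) r)) : W _) : V) = 0
        rw [h3, ih]
        simp
    have h0 : a = 0 := funext fun q => by
      obtain ⟨r, hr, j, rfl⟩ := hR q
      exact hz j r hr
    apply Subtype.ext
    rw [← haS, h0, map_zero]
    rfl
  have hle := LinearMap.finrank_le_finrank_of_injective hPinj
  rw [Module.finrank_pi_fintype] at hle
  simp only [hm, Finset.sum_const, Finset.card_univ, Fintype.card_coe, smul_eq_mul] at hle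
  rw [hn]
  have hidx : M.index = Fintype.card (G ⧸ M) := by rw [Subgroup.index, Nat.card_eq_fintype_card]
  have hf : Nat.card {q : G ⧸ M // τ q = q} = Nat.card {q : G ⧸ M // x • q = q} := rfl
  rw [hf, Nat.card_eq_fintype_card] at hRle
  rw [hidx] at hfix
  have hnpos : 0 < Fintype.card (G ⧸ M) := Fintype.card_pos
  have h2R : 2 * R.card < Fintype.card (G ⧸ M) := by
    by_contra hcon
    push Not at hcon
    have h4 := Nat.mul_le_mul_left p hcon
    have h5 := Nat.mul_le_mul_left (p - 1) hfix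
    obtain ⟨p', rfl⟩ : ∃ p', p = p' + 5 := ⟨p - 5, by omega⟩
    rw [show p' + 5 - 1 = p' + 4 by omega] at h5 hRle
    nlinarith
  calc 2 * finrank k K ≤ 2 * (R.card * m) := Nat.mul_le_mul_left 2 hle
    _ = 2 * R.card * m := by ring
    _ < Fintype.card (G ⧸ M) * m := Nat.mul_lt_mul_of_pos_right h2R hmpos

/-- A normal abelian subgroup not acting by scalars gives imprimitivity. -/
theorem two_mul_fixed_lt_of_abelian [IsAlgClosed k] [Group.IsSolvable G] {p : ℕ} [hp : Fact p.Prime]
    (hp5 : 5 ≤ p) (ρ : G →* End k V)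
    (hirr : ∀ U : Submodule k V, (∀ g, ∀ u ∈ U, ρ g u ∈ U) → U = ⊥ ∨ U = ⊤) [Nontrivial V]
    (x : G) (hx : x ^ p = 1) (hgen : Subgroup.normalClosure {x} = ⊤)
    (A : Subgroup G) [hAn : A.Normal] (hAc : ∀ a ∈ A, ∀ b ∈ A, a * b = b * a)
    (hns : ∃ a ∈ A, ∀ c : k, ρ a ≠ c • 1) :
    2 * finrank k (LinearMap.ker (ρ x - 1)) < finrank k V := by
  classical
  set ω : (A → k) → Submodule k V := fun χ => ⨅ a : A, (ρ (a : G)).eigenspace (χ a) with hω
  have hmemω : ∀ χ v, v ∈ ω χ ↔ ∀ a : A, ρ (a : G) v = χ a • v := fun χ v => by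
    simp [hω, Module.End.mem_eigenspace_iff]
  have hind : iSupIndep ω := by
    refine iSupIndep.mono ((Module.End.independent_iInf_maxGenEigenspace_of_forall_mapsTo
      (fun a : A => ρ (a : G)) ?_)) fun χ => iInf_mono fun a => Module.End.eigenspace_le_maxGenEigenspace
    intro a b φ
    refine Module.End.mapsTo_maxGenEigenspace_of_comm (f := ρ (b : G)) (g := ρ (a : G)) ?_ φ
    show ρ (b : G) * ρ (a : G) = ρ (a : G) * ρ (b : G)
    rw [← map_mul, ← map_mul, hAc _ b.2 _ a.2]
  clear_value ω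
  clear hω
  -- a common eigenvector
  obtain ⟨χ₀, hχ₀⟩ : ∃ χ, ω χ ≠ ⊥ := by
    obtain ⟨U, hU⟩ := exists_minimal_of_wellFoundedLT
      (fun U : Submodule k V => (∀ a : A, ∀ u ∈ U, ρ (a : G) u ∈ U) ∧ U ≠ ⊥)
      ⟨⊤, fun _ _ _ => trivial, top_ne_bot⟩
    obtain ⟨hUinv, hUne⟩ := hU.1
    haveI : Nontrivial U := Submodule.nontrivial_iff_ne_bot.mpr hUne
    have hsc : ∀ a : A, ∃ c : k, ∀ u ∈ U, ρ (a : G) u = c • u := by
      intro a
      obtain ⟨c, hc⟩ := Module.End.exists_eigenvalue ((ρ (a : G)).restrict (hUinv a))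
      obtain ⟨v, hv⟩ := hc.exists_hasEigenvector
      refine ⟨c, fun u hu => ?_⟩
      have hle : U ≤ U ⊓ (ρ (a : G)).eigenspace c := hU.2 ⟨fun b w hw => ⟨hUinv b w hw.1, by
          have hw2 := Module.End.mem_eigenspace_iff.mp hw.2
          show ρ (b : G) w ∈ (ρ (a : G)).eigenspace c
          rw [Module.End.mem_eigenspace_iff, ← Module.End.mul_apply, ← map_mul, hAc _ a.2 _ b.2,
            map_mul, Module.End.mul_apply, hw2, map_smul]⟩, fun hb => hv.2 (Subtype.ext (by
          have h1 : ((v : U) : V) ∈ U ⊓ (ρ (a : G)).eigenspace c := ⟨v.2, by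
            show ((v : U) : V) ∈ (ρ (a : G)).eigenspace c
            rw [Module.End.mem_eigenspace_iff]
            exact congrArg Subtype.val (Module.End.mem_eigenspace_iff.mp hv.1)⟩
          rw [hb, Submodule.mem_bot] at h1
          exact h1))⟩ inf_le_left
      exact Module.End.mem_eigenspace_iff.mp (hle hu).2
    choose c hc using hsc
    exact ⟨c, fun hb => hUne (le_bot_iff.mp (hb ▸ fun u hu => (hmemω c u).mpr fun a => hc a u hu))⟩
  have hinvρ : ∀ g v, ρ g⁻¹ (ρ g v) = v := fun g v => by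
    rw [← Module.End.mul_apply, ← map_mul, inv_mul_cancel, map_one]; rfl
  have hinvρ' : ∀ g v, ρ g (ρ g⁻¹ v) = v := fun g v => by
    rw [← Module.End.mul_apply, ← map_mul, mul_inv_cancel, map_one]; rfl
  set twist : G → (A → k) → A → k :=
    fun g χ a => χ ⟨g⁻¹ * (a : G) * g, by simpa using hAn.conj_mem _ a.2 g⁻¹⟩
  have hmap : ∀ g χ, (ω χ).map (ρ g) = ω (twist g χ) := by
    intro g χ
    apply le_antisymm
    · rintro _ ⟨v, hv, rfl⟩
      rw [hmemω]
      intro a
      have h1 := (hmemω χ v).mp hv ⟨g⁻¹ * (a : G) * g, by simpa using hAn.conj_mem _ a.2 g⁻¹⟩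
      rw [← Module.End.mul_apply, ← map_mul, show (a : G) * g = g * (g⁻¹ * (a : G) * g) by
        simp [mul_assoc], map_mul, Module.End.mul_apply, h1, map_smul]
    · intro w hw
      refine ⟨ρ g⁻¹ w, (hmemω χ _).mpr fun a => ?_, hinvρ' g w⟩
      have h1 := (hmemω _ w).mp hw ⟨g * (a : G) * g⁻¹, hAn.conj_mem _ a.2 g⟩
      have h2 : twist g χ ⟨g * (a : G) * g⁻¹, hAn.conj_mem _ a.2 g⟩ = χ a :=
        congrArg χ (Subtype.ext (by simp [mul_assoc]))
      rw [h2] at h1
      rw [← Module.End.mul_apply, ← map_mul, show (a : G) * g⁻¹ = g⁻¹ * (g * (a : G) * g⁻¹) by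
        simp [mul_assoc], map_mul, Module.End.mul_apply, h1, map_smul]
  let st : Subgroup G :=
    { carrier := {g | (ω χ₀).map (ρ g) = ω χ₀}
      one_mem' := by
        show (ω χ₀).map (ρ 1) = _
        rw [map_one, Module.End.one_eq_id, Submodule.map_id]
      mul_mem' := fun {g h} hg hh => by
        show (ω χ₀).map (ρ (g * h)) = _
        rw [map_mul, Module.End.mul_eq_comp, Submodule.map_comp, hh, hg]
      inv_mem' := fun {g} hg => by
        show (ω χ₀).map (ρ g⁻¹) = _
        conv_lhs => rw [← hg]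
        rw [← Submodule.map_comp, ← Module.End.mul_eq_comp, ← map_mul, inv_mul_cancel, map_one,
          Module.End.one_eq_id, Submodule.map_id] }
  have hst : st ≠ ⊤ := by
    intro h
    obtain ⟨a, ha, hna⟩ := hns
    refine hna (χ₀ ⟨a, ha⟩) ?_
    rcases hirr (ω χ₀) (fun g v hv => by
      have hg : g ∈ st := h ▸ mem_top g
      exact (show (ω χ₀).map (ρ g) = ω χ₀ from hg) ▸ Submodule.mem_map_of_mem hv) with h1 | h1
    · exact absurd h1 hχ₀
    · exact LinearMap.ext fun v => (hmemω χ₀ v).mp (h1 ▸ Submodule.mem_top) ⟨a, ha⟩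
  obtain ⟨M, hM, hstM⟩ := (eq_top_or_exists_le_coatom st).resolve_left hst
  set B : G ⧸ M → Submodule k V :=
    fun q => ⨆ (g : G) (_ : (g : G ⧸ M) = q), (ω χ₀).map (ρ g) with hB
  have hleB : ∀ (h : G) (q : G ⧸ M), (h : G ⧸ M) = q → (ω χ₀).map (ρ h) ≤ B q := fun h q hq =>
    le_iSup₂ (f := fun (g : G) (_ : (g : G ⧸ M) = q) => (ω χ₀).map (ρ g)) h hq
  have hBle : ∀ (q : G ⧸ M) (W : Submodule k V),
      (∀ h : G, (h : G ⧸ M) = q → (ω χ₀).map (ρ h) ≤ W) → B q ≤ W := fun q W hW =>
    iSup₂_le hW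
  clear_value B
  clear hB
  have hBmap : ∀ g q, (B q).map (ρ g) = B (g • q) := by
    intro g q
    apply le_antisymm
    · rw [Submodule.map_le_iff_le_comap]
      refine hBle _ _ fun h hh => ?_
      rw [← Submodule.map_le_iff_le_comap, ← Submodule.map_comp, ← Module.End.mul_eq_comp,
        ← map_mul]
      refine hleB (g * h) _ ?_
      rw [← hh]; rfl
    · refine hBle _ _ fun h hh => ?_
      have h1 : ((g⁻¹ * h : G) : G ⧸ M) = q := by
        rw [show ((g⁻¹ * h : G) : G ⧸ M) = g⁻¹ • (h : G ⧸ M) from rfl, hh, inv_smul_smul]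
      calc (ω χ₀).map (ρ h) = ((ω χ₀).map (ρ (g⁻¹ * h))).map (ρ g) := by
            rw [← Submodule.map_comp, ← Module.End.mul_eq_comp, ← map_mul, mul_inv_cancel_left]
        _ ≤ _ := Submodule.map_mono (hleB (g⁻¹ * h) q h1)
  have hne : ∀ g, (ω χ₀).map (ρ g) ≠ ⊥ := fun g hb => hχ₀ (by
    rw [Submodule.eq_bot_iff]
    intro v hv
    have : ρ g v ∈ (ω χ₀).map (ρ g) := Submodule.mem_map_of_mem hv
    rw [hb, Submodule.mem_bot] at this
    rw [← hinvρ g v, this, map_zero])
  refine two_mul_fixed_lt_of_blocks hp5 ρ M x hx B ?_ ?_ ?_ hBmap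
    (three_mul_fixed_le (by omega) M hM x hx hgen)
  · intro q
    let Sq : (G ⧸ M) → Set (A → k) := fun q => {χ | ∃ g : G, (g : G ⧸ M) = q ∧ twist g χ₀ = χ}
    have hdis : Disjoint (Sq q) (⋃ (j) (_ : j ≠ q), Sq j) := by
      rw [Set.disjoint_left]
      rintro χ ⟨g, hg, rfl⟩ hχ
      obtain ⟨j, hj, h, hh, hhe⟩ := Set.mem_iUnion₂.mp hχ
      refine hj ?_
      have h1 : (ω χ₀).map (ρ h) = (ω χ₀).map (ρ g) := by rw [hmap, hmap, hhe]
      have h2 : g⁻¹ * h ∈ st := by
        show (ω χ₀).map (ρ (g⁻¹ * h)) = _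
        rw [map_mul, Module.End.mul_eq_comp, Submodule.map_comp, h1, ← Submodule.map_comp,
          ← Module.End.mul_eq_comp, ← map_mul, inv_mul_cancel, map_one, Module.End.one_eq_id,
          Submodule.map_id]
      rw [← hh, ← hg, eq_comm, QuotientGroup.eq]
      exact hstM h2
    refine (hind.disjoint_biSup_biSup hdis).mono ?_ ?_
    · refine hBle _ _ fun g hg => ?_
      rw [hmap]
      exact le_iSup₂_of_le (twist g χ₀) ⟨g, hg, rfl⟩ le_rfl
    · refine iSup₂_le fun j hj => hBle _ _ fun g hg => ?_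
      rw [hmap]
      exact le_iSup₂_of_le (twist g χ₀) (Set.mem_iUnion₂.mpr ⟨j, hj, g, hg, rfl⟩) le_rfl
  · refine (hirr (⨆ q, B q) fun g v hv => ?_).resolve_left fun hb => hne 1 ?_
    · have : (⨆ q, B q).map (ρ g) ≤ ⨆ q, B q := by
        rw [Submodule.map_iSup]
        exact iSup_le fun q => (hBmap g q).le.trans (le_iSup B _)
      exact this (Submodule.mem_map_of_mem hv)
    · rw [← le_bot_iff, ← hb]
      exact (hleB 1 _ rfl).trans (le_iSup B ((1 : G) : G ⧸ M))
  · intro q hb
    obtain ⟨g, rfl⟩ := QuotientGroup.mk_surjective q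
    exact hne g (le_bot_iff.mp ((hleB g _ rfl).trans hb.le))

end Cfsg.Agent.LAE65.FixedHalf
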