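import Cfsg.Agent.LAE65.FixedHalf.Section

set_option autoImplicit false

namespace Cfsg.Agent.LAE65.FixedHalf

open Subgroup
open scoped commutatorElement

variable {G : Type*} [Group G]

/-- A normal subgroup centralised modulo a central subgroup by a generator of the group, the
generator having prime order, is abelian. -/
theorem abelian_of_fixed_mod {p : ℕ} [hp : Fact p.Prime] (x : G) (hx : x ^ p = 1)
    (hgen : Subgroup.normalClosure {x} = ⊤) (S E : Subgroup G) [S.Normal] [E.Normal]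
    (hS : ∀ a ∈ S, ∀ g, a * g = g * a) (hE : ∀ e ∈ E, x * e * x⁻¹ * e⁻¹ ∈ S) :
    ∀ a ∈ E, ∀ b ∈ E, a * b = b * a := by
  let D : Subgroup G :=
    { carrier := {g | ∀ e ∈ E, ⁅g, e⁆ ∈ S}
      one_mem' := fun e _ => by simp
      mul_mem' := fun {a b} ha hb e he => by
        have h1 := (inferInstance : S.Normal).conj_mem _ (hb e he) a
        have h2 := mul_mem h1 (ha e he)
        simpa [commutatorElement_def, mul_assoc] using h2
      inv_mem' := fun {a} ha e he => by
        have h1 := (inferInstance : S.Normal).conj_mem _ (inv_mem (ha e he)) a⁻¹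
        simpa [commutatorElement_def, mul_assoc] using h1 }
  have hDn : D.Normal := ⟨fun d hd g e he => by
    have h0 : g⁻¹ * e * g ∈ E := by
      simpa using (inferInstance : E.Normal).conj_mem e he g⁻¹
    have h1 := (inferInstance : S.Normal).conj_mem _ (hd _ h0) g
    simpa [commutatorElement_def, mul_assoc] using h1⟩
  have hxD : x ∈ D := fun e he => hE e he
  have hDtop : D = ⊤ := by
    rw [eq_top_iff, ← hgen]
    exact normalClosure_le_normal (Set.singleton_subset_iff.mpr hxD)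
  have hGE : ⁅(⊤ : Subgroup G), E⁆ ≤ S := commutator_le.mpr fun g _ e he => by
    have hg : g ∈ D := hDtop ▸ mem_top g
    exact hg e he
  have hcomm : ⁅E, (⊤ : Subgroup G)⁆ = ⁅(⊤ : Subgroup G), E⁆ := commutator_comm _ _
  have h1 : ⁅⁅(⊤ : Subgroup G), E⁆, (⊤ : Subgroup G)⁆ = ⊥ :=
    commutator_eq_bot_iff_le_centralizer.mpr fun a ha =>
      mem_centralizer_iff.mpr fun g _ => (hS a (hGE ha) g).symm
  have h2 : ⁅⁅(⊤ : Subgroup G), (⊤ : Subgroup G)⁆, E⁆ = ⊥ := by
    refine Subgroup.commutator_commutator_eq_bot_of_rotate h1 ?_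
    rw [hcomm]
    exact h1
  have hC : ⁅(⊤ : Subgroup G), (⊤ : Subgroup G)⁆ ≤ Subgroup.centralizer (E : Set G) :=
    commutator_eq_bot_iff_le_centralizer.mp h2
  have htop : ⁅(⊤ : Subgroup G), (⊤ : Subgroup G)⁆ ⊔ zpowers x = ⊤ := by
    have hn : (⁅(⊤ : Subgroup G), (⊤ : Subgroup G)⁆ ⊔ zpowers x).Normal := by
      refine ⟨fun a ha g => ?_⟩
      have h4 : ⁅g, a⁆ ∈ ⁅(⊤ : Subgroup G), (⊤ : Subgroup G)⁆ :=
        commutator_mem_commutator (mem_top g) (mem_top a)
      have h3 := mul_mem (Subgroup.mem_sup_left (T := zpowers x) h4) ha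
      simpa [commutatorElement_def, mul_assoc] using h3
    have hxm : x ∈ ⁅(⊤ : Subgroup G), (⊤ : Subgroup G)⁆ ⊔ zpowers x :=
      Subgroup.mem_sup_right (mem_zpowers x)
    haveI := hn
    exact top_le_iff.mp
      (hgen.ge.trans (normalClosure_le_normal (Set.singleton_subset_iff.mpr hxm)))
  have hdec : ∀ g : G, ∃ u ∈ ⁅(⊤ : Subgroup G), (⊤ : Subgroup G)⁆, ∃ i : ℤ, g = u * x ^ i := by
    intro g
    have hg : g ∈ ⁅(⊤ : Subgroup G), (⊤ : Subgroup G)⁆ ⊔ zpowers x := by rw [htop]; exact mem_top g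
    obtain ⟨u, hu, v, hv, huv⟩ := Subgroup.mem_sup_of_normal_left.mp hg
    obtain ⟨i, hi⟩ := mem_zpowers_iff.mp hv
    exact ⟨u, hu, i, by rw [hi, huv]⟩
  intro a ha b hb
  obtain ⟨u, hu, i, hau⟩ := hdec a
  obtain ⟨v, hv, j, hbv⟩ := hdec b
  have hub : Commute u b := (mem_centralizer_iff.mp (hC hu) b hb).symm
  have hvb : Commute v b := (mem_centralizer_iff.mp (hC hv) b hb).symm
  by_cases hpj : (p : ℤ) ∣ j
  · obtain ⟨l, hl⟩ := hpj
    have hxj : x ^ j = 1 := by rw [hl, zpow_mul, zpow_natCast, hx, one_zpow]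
    rw [hxj, mul_one] at hbv
    rw [hbv]
    exact mem_centralizer_iff.mp (hC hv) a ha
  · have hjb : Commute (x ^ j) b := by
      have h5 : x ^ j = v⁻¹ * b := by rw [hbv, inv_mul_cancel_left]
      rw [h5]
      exact hvb.inv_left.mul_left (Commute.refl b)
    obtain ⟨s, t, hst⟩ := (Prime.coprime_iff_not_dvd (Nat.prime_iff_prime_int.mp hp.out)).mpr hpj
    have hxb : Commute x b := by
      have h6 : x = (x ^ j) ^ t := by
        rw [← zpow_mul, show j * t = 1 - (p : ℤ) * s by linarith, zpow_sub, zpow_one,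
          zpow_mul, zpow_natCast, hx, one_zpow, inv_one, mul_one]
      rw [h6]
      exact hjb.zpow_left t
    rw [hau]
    exact (hub.mul_left (hxb.zpow_left i)).eq

end Cfsg.Agent.LAE65.FixedHalf
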