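import Cfsg.Agent.LAE65.FixedHalf.CaseCoprime
import Cfsg.Agent.LAE65.FixedHalf.CaseEqual
import Cfsg.Agent.LAE65.FixedHalf.Move

set_option autoImplicit false

namespace Cfsg.Agent.LAE65.FixedHalf

open Module Subgroup
open scoped commutatorElement

variable {G : Type*} [Group G] [Finite G] {k : Type*} [Field k] [IsAlgClosed k] {V : Type*}
  [AddCommGroup V] [Module k V] [FiniteDimensional k V]

/-- The case of a faithful irreducible representation over an algebraically closed field. -/
theorem two_mul_fixed_lt_of_faithful [Group.IsSolvable G] [Nontrivial V] {p : ℕ}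
    [hp : Fact p.Prime] (hp5 : 5 ≤ p) (ρ : G →* End k V) (hinj : Function.Injective ρ)
    (hirr : ∀ U : Submodule k V, (∀ g, ∀ u ∈ U, ρ g u ∈ U) → U = ⊥ ∨ U = ⊤)
    (x : G) (hx : x ^ p = 1) (hx1 : x ≠ 1) (hgen : Subgroup.normalClosure {x} = ⊤) :
    2 * finrank k (LinearMap.ker (ρ x - 1)) < finrank k V := by
  classical
  by_cases hab : ∃ A : Subgroup G, A.Normal ∧ (∀ a ∈ A, ∀ b ∈ A, a * b = b * a) ∧ ¬ A ≤ (scalars ρ)
  · obtain ⟨A, hAn, hAc, hAS⟩ := hab
    obtain ⟨a, ha, haS⟩ := SetLike.not_le_iff_exists.mp hAS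
    exact two_mul_fixed_lt_of_abelian hp5 ρ hirr x hx hgen A hAc
      ⟨a, ha, fun c hc => haS (mem_scalars_of_smul ρ hc)⟩
  push Not at hab
  by_cases hGS : (⊤ : Subgroup G) ≤ (scalars ρ)
  · obtain ⟨c, hc⟩ := hGS (mem_top x)
    have hc1 : (c : k) - 1 ≠ 0 := fun h => hx1 (hinj (by
      rw [hc, map_one, sub_eq_zero.mp h, one_smul]))
    have hker : LinearMap.ker (ρ x - 1) = ⊥ := by
      rw [LinearMap.ker_eq_bot']
      intro v hv
      have h1 : ((c : k) - 1) • v = 0 := by simpa [hc, sub_smul] using hv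
      exact (smul_eq_zero.mp h1).resolve_left hc1
    rw [hker, finrank_bot, mul_zero]
    exact finrank_pos
  -- a minimal noncentral normal subgroup
  obtain ⟨E, hEmin⟩ := exists_minimal_of_wellFoundedLT
    (fun E : Subgroup G => E.Normal ∧ ¬ E ≤ (scalars ρ)) ⟨⊤, inferInstance, hGS⟩
  obtain ⟨hEn, hES⟩ := hEmin.1
  haveI := hEn
  have hmin : ∀ Q : Subgroup G, Q.Normal → Q ≤ E → Q ≤ (scalars ρ) ∨ Q = E := fun Q hQ hle => by
    by_cases h : Q ≤ (scalars ρ)
    · exact Or.inl h
    · exact Or.inr (le_antisymm hle (hEmin.2 ⟨hQ, h⟩ hle))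
  have hcomm : ∀ a ∈ E, ∀ b ∈ E, ⁅a, b⁆ ∈ (scalars ρ) := by
    have h1 : ⁅E, E⁆ ≤ (scalars ρ) := by
      rcases hmin ⁅E, E⁆ inferInstance (Subgroup.commutator_le_self E) with h | h
      · exact h
      · exfalso
        obtain ⟨n, hn⟩ := Group.IsSolvable.solvable (G := G)
        have h2 : ∀ j, E ≤ derivedSeries G j := by
          intro j
          induction j with
          | zero => rw [derivedSeries_zero]; exact le_top
          | succ j ih => rw [derivedSeries_succ, ← h]; exact Subgroup.commutator_mono ih ih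
        exact hES ((h2 n).trans (hn.le.trans bot_le))
    exact fun a ha b hb => h1 (commutator_mem_commutator ha hb)
  have hrad : ∀ a ∈ E, (∀ b ∈ E, a * b = b * a) → a ∈ (scalars ρ) := by
    intro a ha h
    refine hab (E ⊓ Subgroup.centralizer (E : Set G)) inferInstance
      (fun u hu v hv => mem_centralizer_iff.mp hv.2 u hu.1) ⟨ha, ?_⟩
    exact mem_centralizer_iff.mpr fun b hb => (h b hb).symm
  have hCS : ∀ a ∈ (scalars ρ), ∀ g, a * g = g * a := fun a ha g => scalars_comm ρ hinj ha g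
  -- `x` moves `E` modulo the scalars
  have hmove : ∃ a ∈ E, a ∉ fixMod ρ x := by
    by_contra hc
    push Not at hc
    exact hES (hab E hEn (abelian_of_fixed_mod x hx hgen (scalars ρ) E hCS
      fun e he => mem_fixMod'.mp (hc e he)))
  -- `E` is an `r`-group
  haveI hEnil : Group.IsNilpotent ↥E := by
    refine Subgroup.nilpotent_iff_lowerCentralSeries.mpr ⟨2, ?_⟩
    rw [eq_bot_iff, Subgroup.lowerCentralSeries_succ, commutator_le]
    intro a ha b _
    have haS : (a : G) ∈ (scalars ρ) := by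
      have h3 : (⁅(⊤ : Subgroup ↥E), ⊤⁆) ≤ (scalars ρ).subgroupOf E :=
        commutator_le.mpr fun u _ v _ => hcomm _ u.2 _ v.2
      exact h3 (by simpa [Subgroup.lowerCentralSeries_succ, Subgroup.lowerCentralSeries_zero] using ha)
    rw [mem_bot, commutatorElement_eq_one_iff_mul_comm]
    exact Subtype.ext (hCS _ haS _)
  obtain ⟨r, hr, hEr⟩ : ∃ r : ℕ, r.Prime ∧ IsPGroup r ↥E := by
    by_contra hc
    push Not at hc
    have hall : ∀ q : Nat.Primes, (pCore (q : ℕ) ↥E).map E.subtype ≤ (scalars ρ) := by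
      intro q
      haveI : Fact (q : ℕ).Prime := ⟨q.2⟩
      have hn : ((pCore (q : ℕ) ↥E).map E.subtype).Normal := by
        haveI : (pCore (q : ℕ) ↥E).Characteristic := Fitting.pCore_characteristic (q : ℕ)
        exact ConjAct.normal_of_characteristic_of_normal
      refine (hmin _ hn (map_subtype_le _)).resolve_right fun h => hc q q.2 ?_
      have h4 := ((Fitting.pCore_isPGroup (q : ℕ) (G := ↥E)).map E.subtype)
      rw [h] at h4
      exact h4
    refine hES ?_
    have h5 : (⊤ : Subgroup ↥E) ≤ (scalars ρ).subgroupOf E := by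
      refine (Fitting.le_iSup_pCore_of_isNilpotent (N := ⊤) inferInstance
        ((Group.isNilpotent_congr Subgroup.topEquiv).mpr hEnil)).trans (iSup_le fun q => ?_)
      exact fun a ha => hall q (mem_map_of_mem _ ha)
    exact fun a ha => h5 (mem_top ⟨a, ha⟩)
  rcases ne_or_eq r p with hrp | hrp
  · exact two_mul_fixed_lt_coprime hp5 ρ hinj x hx E hES hmin hcomm hrad hmove hr hEr hrp
  · exact two_mul_fixed_lt_equal hp5 ρ hinj x hx E hES hmin hcomm hrad hmove hr hEr hrp

end Cfsg.Agent.LAE65.FixedHalf
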