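import Mathlib

/-!
# Orbit representatives of a permutation of prime order
-/

set_option autoImplicit false

namespace Cfsg.Agent.LAE65.FixedHalf

/-- Orbit representatives of an invariant finite set under a permutation with `τ ^ p = 1`:
at most `(|s| + (p - 1) f) / p` of them, `f` fixed points; and `|s| ≡ f` mod `p`. -/
theorem exists_orbit_reps {α : Type*} [DecidableEq α] {p : ℕ} [hp : Fact p.Prime]
    (τ : Equiv.Perm α) (hτ : τ ^ p = 1) (s : Finset α) (hs : ∀ a, a ∈ s ↔ τ a ∈ s) :
    ∃ R ⊆ s, (∀ a ∈ s, ∃ r ∈ R, ∃ j : ℕ, (τ ^ j) r = a) ∧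
      p * R.card ≤ s.card + (p - 1) * (s.filter fun a => τ a = a).card ∧
      s.card % p = (s.filter fun a => τ a = a).card % p := by
  induction hc : s.card using Nat.strong_induction_on generalizing s with
  | _ c ih =>
  subst hc
  rcases s.eq_empty_or_nonempty with rfl | ⟨a, ha⟩
  · exact ⟨∅, Finset.Subset.refl _, by simp, by simp, by simp⟩
  have hp1 : 1 ≤ p := hp.out.pos
  set O := (Finset.range p).image fun j => (τ ^ j) a with hO
  have hmem : ∀ j, (τ ^ j) a ∈ O := fun j => by
    refine Finset.mem_image.mpr ⟨j % p, Finset.mem_range.mpr (Nat.mod_lt _ hp1), ?_⟩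
    conv_rhs => rw [← Nat.mod_add_div j p, pow_add, pow_mul, hτ, one_pow, mul_one]
  have hOinv : ∀ b, b ∈ O ↔ τ b ∈ O := by
    intro b
    constructor
    · intro hb
      obtain ⟨j, -, rfl⟩ := Finset.mem_image.mp hb
      rw [← Equiv.Perm.mul_apply, ← pow_succ']
      exact hmem _
    · intro hb
      obtain ⟨j, -, hj⟩ := Finset.mem_image.mp hb
      have : b = (τ ^ (j + (p - 1))) a := by
        apply τ.injective
        rw [← Equiv.Perm.mul_apply, ← pow_succ', show j + (p - 1) + 1 = j + p by omega,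
          pow_add, hτ, mul_one, hj]
      exact this ▸ hmem _
  have hiter : ∀ j, (τ ^ j) a ∈ s := by
    intro j
    induction j with
    | zero => simpa using ha
    | succ j ihj => rw [pow_succ', Equiv.Perm.mul_apply]; exact (hs _).mp ihj
  have hOs : O ⊆ s := fun b hb => by
    obtain ⟨j, -, rfl⟩ := Finset.mem_image.mp hb
    exact hiter j
  obtain ⟨R, hRs, hRc, hRle, hRmod⟩ := ih (s \ O).card
    (Finset.card_lt_card (Finset.sdiff_ssubset hOs ⟨_, hmem 0⟩)) (s \ O)
    (fun b => by rw [Finset.mem_sdiff, Finset.mem_sdiff, ← hs b, ← hOinv b]) rfl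
  have haR : a ∉ R := fun h => (Finset.mem_sdiff.mp (hRs h)).2 (by simpa using hmem 0)
  refine ⟨insert a R, Finset.insert_subset ha (hRs.trans Finset.sdiff_subset), ?_, ?_⟩
  · intro b hb
    by_cases hbO : b ∈ O
    · obtain ⟨j, -, rfl⟩ := Finset.mem_image.mp hbO
      exact ⟨a, Finset.mem_insert_self _ _, j, rfl⟩
    · obtain ⟨r, hr, j, hj⟩ := hRc b (Finset.mem_sdiff.mpr ⟨hb, hbO⟩)
      exact ⟨r, Finset.mem_insert_of_mem hr, j, hj⟩
  rw [Finset.card_insert_of_notMem haR]
  have hcard := Finset.card_sdiff_add_card_eq_card hOs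
  by_cases hfix : τ a = a
  · have hO1 : O = {a} := by
      refine Finset.eq_singleton_iff_unique_mem.mpr ⟨by simpa using hmem 0, fun b hb => ?_⟩
      obtain ⟨j, -, rfl⟩ := Finset.mem_image.mp hb
      clear hb
      induction j with
      | zero => rfl
      | succ j ihj => rw [pow_succ', Equiv.Perm.mul_apply, ihj, hfix]
    rw [hO1, Finset.card_singleton] at hcard
    have hf : (s.filter fun b => τ b = b) = insert a ((s \ O).filter fun b => τ b = b) := by
      ext b
      by_cases hb : b = a
      · subst hb; simp [ha, hfix]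
      · simp [hO1, hb]
    rw [hf, Finset.card_insert_of_notMem (by simp [hO1])]
    rw [hO1] at hRle hRmod ⊢
    refine ⟨?_, ?_⟩
    · rw [Nat.mul_add, mul_one, Nat.mul_add, mul_one]; omega
    · rw [← hcard, Nat.add_mod, hRmod, ← Nat.add_mod]
  · have hinj : Set.InjOn (fun j => (τ ^ j) a) (Finset.range p : Set ℕ) := by
      intro i hi j hj hij
      simp only [Finset.coe_range, Set.mem_Iio] at hi hj
      by_contra hne
      obtain ⟨k, hk0, hkp, hk⟩ : ∃ k, 0 < k ∧ k < p ∧ (τ ^ k) a = a := by
        rcases Nat.lt_or_gt_of_ne hne with h | h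
        · refine ⟨j - i, by omega, by omega, (τ ^ i).injective ?_⟩
          rw [← Equiv.Perm.mul_apply, ← pow_add, show i + (j - i) = j by omega]
          exact hij.symm
        · refine ⟨i - j, by omega, by omega, (τ ^ j).injective ?_⟩
          rw [← Equiv.Perm.mul_apply, ← pow_add, show j + (i - j) = i by omega]
          exact hij
      obtain ⟨m, -, hm⟩ := Nat.exists_mul_mod_eq_one_of_coprime
        ((hp.out.coprime_iff_not_dvd.mpr (Nat.not_dvd_of_pos_of_lt hk0 hkp)).symm)
        hp.out.one_lt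
      refine hfix ?_
      have hkm : ∀ m : ℕ, (τ ^ (k * m)) a = a := by
        intro m
        induction m with
        | zero => simp
        | succ m ihm => rw [Nat.mul_succ, pow_add, Equiv.Perm.mul_apply, hk, ihm]
      have h1 := hkm m
      rw [← Nat.mod_add_div (k * m) p, pow_add, pow_mul, hτ, one_pow, mul_one, hm, pow_one] at h1
      exact h1
    have hOc : O.card = p := by
      rw [hO, Finset.card_image_of_injOn hinj, Finset.card_range]
    rw [hOc] at hcard
    have hf : (s.filter fun b => τ b = b) = ((s \ O).filter fun b => τ b = b) := by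
      ext b
      simp only [Finset.mem_filter, Finset.mem_sdiff]
      refine ⟨fun h => ⟨⟨h.1, fun hb => hfix ?_⟩, h.2⟩, fun h => ⟨h.1.1, h.2⟩⟩
      obtain ⟨j, -, rfl⟩ := Finset.mem_image.mp hb
      refine (τ ^ j).injective ?_
      rw [← Equiv.Perm.mul_apply, ← pow_succ, pow_succ', Equiv.Perm.mul_apply]
      exact h.2
    rw [hf]
    refine ⟨?_, ?_⟩
    · rw [Nat.mul_add, mul_one]; omega
    · rw [← hcard, Nat.add_mod_right, hRmod]

/-- The same, for a finite type. -/
theorem exists_orbit_reps_univ {α : Type*} [Finite α] {p : ℕ} [Fact p.Prime]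
    (τ : Equiv.Perm α) (hτ : τ ^ p = 1) :
    ∃ R : Finset α, (∀ a, ∃ r ∈ R, ∃ j : ℕ, (τ ^ j) r = a) ∧
      p * R.card ≤ Nat.card α + (p - 1) * Nat.card {a // τ a = a} ∧
      Nat.card α % p = Nat.card {a // τ a = a} % p := by
  classical
  haveI := Fintype.ofFinite α
  obtain ⟨R, -, h1, h2, h3⟩ := exists_orbit_reps τ hτ Finset.univ (by simp)
  refine ⟨R, fun a => h1 a (Finset.mem_univ a), ?_, ?_⟩
  · simpa [Nat.card_eq_fintype_card, Fintype.card_subtype] using h2
  · simpa [Nat.card_eq_fintype_card, Fintype.card_subtype] using h3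

end Cfsg.Agent.LAE65.FixedHalf
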