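import Cfsg.Agent.LAE65.FixedHalf.Heis
import Cfsg.Agent.LAE65.FixedHalf.Imprimitive
import Cfsg.Agent.Lib.Coprime.Action
import Cfsg.Agent.Lib.Fitting
import Cfsg.Prelude.Def_Amalgam

/-!
# The fixed space of a generator of prime order at least five in a solvable linear group
-/

set_option autoImplicit false

namespace Cfsg.Agent.LAE65.FixedHalf

open Module Subgroup
open scoped commutatorElement

variable {G : Type*} [Group G] {k : Type*} [Field k] {V : Type*} [AddCommGroup V] [Module k V]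

/-- The elements acting by scalars. -/
def scalars (ρ : G →* End k V) : Subgroup G where
  carrier := {g | ∃ c : kˣ, ρ g = (c : k) • 1}
  one_mem' := ⟨1, by simp⟩
  mul_mem' := by
    rintro a b ⟨c, hc⟩ ⟨d, hd⟩
    exact ⟨c * d, by rw [map_mul, hc, hd]; simp [smul_smul, mul_comm]⟩
  inv_mem' := by
    rintro a ⟨c, hc⟩
    refine ⟨c⁻¹, ?_⟩
    have h1 : ρ a⁻¹ * ρ a = 1 := by rw [← map_mul, inv_mul_cancel, map_one]
    rw [hc, mul_smul_comm, mul_one] at h1
    conv_rhs => rw [← h1, smul_smul]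
    simp

instance scalars_normal (ρ : G →* End k V) : (scalars ρ).Normal :=
  ⟨fun a ⟨c, hc⟩ g => ⟨c, by
    rw [map_mul, map_mul, hc, mul_smul_comm, mul_one, smul_mul_assoc, ← map_mul, mul_inv_cancel,
      map_one]⟩⟩

theorem mem_scalars_of_smul [Nontrivial V] (ρ : G →* End k V) {g : G} {c : k} (h : ρ g = c • 1) :
    g ∈ scalars ρ := by
  rcases eq_or_ne c 0 with rfl | hc
  · exfalso
    have h1 := rho_mul_inv ρ g
    rw [h, zero_smul, zero_mul] at h1
    exact zero_ne_one h1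
  · exact ⟨Units.mk0 c hc, h⟩

theorem scalars_comm (ρ : G →* End k V) (hinj : Function.Injective ρ) {a : G}
    (ha : a ∈ scalars ρ) (g : G) : a * g = g * a := by
  obtain ⟨c, hc⟩ := ha
  exact hinj (by rw [map_mul, map_mul, hc, smul_mul_assoc, one_mul, mul_smul_comm, mul_one])

/-- The elements fixed by `x` modulo the scalars. -/
def fixMod (ρ : G →* End k V) (x : G) : Subgroup G :=
  ((QuotientGroup.mk' (scalars ρ)).comp (MulAut.conj x).toMonoidHom).eqLocus
    (QuotientGroup.mk' (scalars ρ))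

theorem mem_fixMod {ρ : G →* End k V} {x e : G} :
    e ∈ fixMod ρ x ↔ ((x * e * x⁻¹ : G) : G ⧸ scalars ρ) = (e : G ⧸ scalars ρ) := Iff.rfl

theorem mem_fixMod' {ρ : G →* End k V} {x e : G} :
    e ∈ fixMod ρ x ↔ x * e * x⁻¹ * e⁻¹ ∈ scalars ρ := by
  rw [mem_fixMod, eq_comm, QuotientGroup.eq]
  exact (inferInstance : (scalars ρ).Normal).mem_comm_iff

theorem commute_commutator_of_fixed {ρ : G →* End k V} (hinj : Function.Injective ρ) {a c y : G}
    (hw : ⁅c, a⁆ ∈ scalars ρ) (hc : y * c * y⁻¹ * c⁻¹ ∈ scalars ρ) :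
    Commute c (y * a * y⁻¹ * a⁻¹) := by
  set w := ⁅c, a⁆ with hwdef
  set z := y * c * y⁻¹ * c⁻¹ with hz
  have hzc := scalars_comm ρ hinj hc
  have hwc := scalars_comm ρ hinj hw
  have h1 : c * a * c⁻¹ = w * a := by simp [hwdef, commutatorElement_def, mul_assoc]
  have h2 : y * c * y⁻¹ = z * c := by simp [hz, mul_assoc]
  -- conjugation by `c` agrees with conjugation by `y c y⁻¹`
  have h3 : c * (y * a * y⁻¹) * c⁻¹ = w * (y * a * y⁻¹) := by
    calc c * (y * a * y⁻¹) * c⁻¹ = z * c * (y * a * y⁻¹) * (c⁻¹ * z⁻¹) := by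
          have : z * c * (y * a * y⁻¹) * (c⁻¹ * z⁻¹) = z * (c * (y * a * y⁻¹) * c⁻¹) * z⁻¹ := by
            simp [mul_assoc]
          rw [this, hzc, mul_inv_cancel_right]
      _ = y * (c * a * c⁻¹) * y⁻¹ := by rw [← h2, ← mul_inv_rev, ← h2]; simp [mul_assoc]
      _ = w * (y * a * y⁻¹) := by
          rw [h1, ← mul_assoc y w a, ← hwc y]; simp [mul_assoc]
  have h4 : c * a⁻¹ * c⁻¹ = a⁻¹ * w⁻¹ := by
    rw [← mul_inv_rev, ← h1]; simp [mul_assoc]
  show c * (y * a * y⁻¹ * a⁻¹) = y * a * y⁻¹ * a⁻¹ * c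
  have h5 : c * (y * a * y⁻¹ * a⁻¹) * c⁻¹ = y * a * y⁻¹ * a⁻¹ := by
    calc c * (y * a * y⁻¹ * a⁻¹) * c⁻¹
        = (c * (y * a * y⁻¹) * c⁻¹) * (c * a⁻¹ * c⁻¹) := by simp [mul_assoc]
      _ = w * (y * a * y⁻¹ * a⁻¹) * w⁻¹ := by rw [h3, h4]; simp [mul_assoc]
      _ = _ := by rw [hwc, mul_inv_cancel_right]
  exact mul_inv_eq_iff_eq_mul.mp h5

variable [Finite G] [IsAlgClosed k] [FiniteDimensional k V]

/-- The general criterion on an invariant section. -/
theorem two_mul_fixed_lt_of_section [Nontrivial V] (ρ : G →* End k V) (hinj : Function.Injective ρ)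
    {p : ℕ} [hp : Fact p.Prime] (x : G) (hx : x ^ p = 1) (E : Subgroup G)
    (hxE : x ∈ Subgroup.normalizer (E : Set G))
    (hcomm : ∀ a ∈ E, ∀ b ∈ E, ⁅a, b⁆ ∈ scalars ρ)
    (hrad : ∀ a ∈ E, (∀ b ∈ E, a * b = b * a) → a ∈ scalars ρ)
    (hσ : ∃ a ∈ E, a ∉ fixMod ρ x)
    (hcount : ∀ R u d : ℕ,
      p * R ≤ (scalars ρ).relIndex E + (p - 1) * (scalars ρ).relIndex (E ⊓ fixMod ρ x) →
      u * u = (scalars ρ).relIndex E → u ≤ 2 * d → R ≤ d * d) :
    2 * finrank k (LinearMap.ker (ρ x - 1)) < finrank k V := by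
  classical
  set Z := (scalars ρ).subgroupOf E with hZ
  let σ : MulAut E :=
    { toFun := fun e => ⟨x * e * x⁻¹, (mem_normalizer_iff.mp hxE e).mp e.2⟩
      invFun := fun e => ⟨x⁻¹ * e * x, by
        simpa using (mem_normalizer_iff.mp (inv_mem hxE) e).mp e.2⟩
      left_inv := fun e => Subtype.ext (by simp [mul_assoc])
      right_inv := fun e => Subtype.ext (by simp [mul_assoc])
      map_mul' := fun a b => Subtype.ext (by simp [mul_assoc]) }
  have hσv : ∀ e : E, ((σ e : E) : G) = x * e * x⁻¹ := fun e => rfl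
  have hσpow : ∀ (j : ℕ) (e : E), (((σ ^ j) e : E) : G) = x ^ j * e * (x ^ j)⁻¹ := by
    intro j
    induction j with
    | zero => intro e; simp
    | succ j ih =>
      intro e
      rw [pow_succ', MulAut.mul_apply, hσv, ih, pow_succ']
      simp [mul_assoc]
  have hZmap : Z.map σ.toMonoidHom = Z := by
    apply le_antisymm
    · rintro _ ⟨e, he, rfl⟩
      exact (scalars_normal ρ).conj_mem _ he x
    · intro e he
      refine ⟨σ.symm e, ?_, σ.apply_symm_apply e⟩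
      show x⁻¹ * (e : G) * x ∈ scalars ρ
      simpa using (scalars_normal ρ).conj_mem _ he x⁻¹
  let c : E ⧸ Z ≃* E ⧸ Z := QuotientGroup.congr Z Z σ hZmap
  let τ : Equiv.Perm (E ⧸ Z) := c.toEquiv
  have hτ : ∀ (j : ℕ) (e : E), (τ ^ j) (e : E ⧸ Z) = (((σ ^ j) e : E) : E ⧸ Z) := by
    intro j
    induction j with
    | zero => intro e; rfl
    | succ j ih =>
      intro e
      rw [pow_succ', Equiv.Perm.mul_apply, ih, pow_succ']
      rfl
  obtain ⟨R, hR, hRle, -⟩ := exists_orbit_reps_univ (p := p) τ (Equiv.ext fun q => by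
    obtain ⟨e, rfl⟩ := QuotientGroup.mk_surjective q
    rw [hτ, Equiv.Perm.one_apply]
    congr 1
    exact Subtype.ext (by rw [hσpow, hx]; simp))
  have hf : Nat.card {q // τ q = q} = (scalars ρ).relIndex (E ⊓ fixMod ρ x) := by
    have h1 : (scalars ρ).relIndex (E ⊓ fixMod ρ x) = Z.relIndex ((fixMod ρ x).subgroupOf E) := by
      rw [hZ, ← inf_subgroupOf_right (fixMod ρ x) E, relIndex_subgroupOf inf_le_right, inf_comm]
    have h2 : (QuotientGroup.mk' Z).ker = Z := QuotientGroup.ker_mk' Z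
    rw [h1]
    conv_rhs => rw [← h2, relIndex_ker]
    refine Nat.card_congr (Equiv.subtypeEquivRight fun q => ?_)
    obtain ⟨e, rfl⟩ := QuotientGroup.mk_surjective q
    show (((σ e : E) : E ⧸ Z) = (e : E ⧸ Z)) ↔ _
    have key : ∀ e : E, ((σ e : E) : E ⧸ Z) = (e : E ⧸ Z) ↔ (e : G) ∈ fixMod ρ x := by
      intro e
      rw [eq_comm, QuotientGroup.eq, mem_fixMod, eq_comm, QuotientGroup.eq]
      rfl
    rw [key]
    constructor
    · exact fun h => ⟨e, h, rfl⟩
    · rintro ⟨e', he', hee⟩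
      have h3 : (e' : E ⧸ Z) = (e : E ⧸ Z) := hee
      have h4 := congrArg (fun q => (τ ^ 1) q) h3
      simp only [hτ, pow_one] at h4
      exact (key e).mp (h4.symm.trans (((key e').mpr he').trans h3))
  have hidx : Nat.card (E ⧸ Z) = (scalars ρ).relIndex E := rfl
  rw [hf, hidx] at hRle
  have hHeis : Heis (ρ.comp E.subtype) Z := by
    refine ⟨fun z hz => ?_, fun a b => hcomm _ a.2 _ b.2, fun a ha => ?_⟩
    · obtain ⟨cz, hcz⟩ := hz
      exact ⟨cz, hcz⟩
    · by_contra hc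
      push Not at hc
      refine ha (hrad _ a.2 fun b hb => ?_)
      have h1 := hinj ((hc ⟨b, hb⟩).trans (map_one ρ).symm)
      exact commutatorElement_eq_one_iff_mul_comm.mp h1
  refine Heis.two_mul_finrank_ker_lt σ ?_ R (fun u d hu hd => hcount _ u d hRle hu hd) (fun q => ?_)
    (finrank k V) V (ρ.comp E.subtype) hHeis
    ⟨ρ x, ρ x⁻¹, rho_mul_inv ρ x, rho_inv_mul ρ x⟩ (fun e => ?_) rfl
  · obtain ⟨a, haE, ha⟩ := hσ
    exact ⟨⟨a, haE⟩, fun h => ha (mem_fixMod'.mpr h)⟩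
  · obtain ⟨r, hr, j, hj⟩ := hR q
    refine ⟨r, hr, j, ?_⟩
    rw [← hj, ← hτ, QuotientGroup.out_eq']
  · show ρ x * ρ (e : G) = ρ (x * e * x⁻¹) * ρ x
    rw [← map_mul, ← map_mul, inv_mul_cancel_right]

end Cfsg.Agent.LAE65.FixedHalf
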